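import Cfsg.Agent.H351.CovF4.Final
import Cfsg.Agent.H563.KG.CycFix
import Cfsg.Agent.OrdDiv.Table
import Cfsg.Agent.S0000

/-!
# `F₄(q)`, `q` even, is not the union of the conjugates of two proper subgroups, without hypotheses (helper351)
-/

set_option autoImplicit false

namespace Cfsg.Agent.H351.CovF4

open Cfsg.Agent.H436 Cfsg.Agent.H563.KG Cfsg.Agent.H278.Cov

/-- **`F₄(q)`, `q` even.** -/
theorem noTwo_f4_even' {q : ℕ} {T : Type*} [Group T] (h : IsNamed (.f4 q) T) {f : ℕ} (hq : q = 2 ^ f) : NoTwo T :=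
  noTwo_f4_even Cfsg.Agent.OrdDiv.table cycFixSolv (fun _ _ _ _ => Cfsg.Agent.S0000.result) h hq

end Cfsg.Agent.H351.CovF4
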