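import Cfsg.Agent.H56.Exc.Big

/-!
# Counting the conjugates of a self-centralising cyclic Hall torus (helper351, for S2499)

`count` : `x` of order `M`, all prime divisors of `M` big (order `M`, exponent `E`), `S` normal containing `x`: then
`|S| = n M (1 + k M)` with `|H : S| n ∣ E`.
-/

set_option autoImplicit false

namespace Cfsg.Agent.H351.CovF4

open Subgroup Cfsg.Agent.H56.Exc

variable {H : Type*} [Group H] [Finite H] {M E : ℕ}

/-- the centralisers of the nontrivial elements of the torus -/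
theorem cent_eq (hbig : ∀ r, r.Prime → r ∣ M → Big H r M E) {x : H} (hx : orderOf x = M) {a : H}
    (ha : a ∈ zpowers x) {r : ℕ} (hr : r.Prime) (hrM : r ∣ M) (har : orderOf a = r) : centralizer {a} = zpowers x := by
  symm
  refine Subgroup.eq_of_le_of_card_ge ?_ ?_
  · intro b hb
    rw [mem_centralizer_singleton_iff]
    obtain ⟨i, rfl⟩ := ha
    obtain ⟨j, rfl⟩ := hb
    exact ((Commute.refl x).zpow_zpow j i).eq
  · rw [Nat.card_zpowers, hx]
    exact Nat.le_of_dvd (by rw [← hx]; exact orderOf_pos x) ((hbig r hr hrM).card a har)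

omit [Finite H] in
theorem mem_of_coprime {A : Subgroup H} {b : H} {m r : ℕ} (h1 : b ^ m ∈ A) (h2 : b ^ r ∈ A) (h : m.Coprime r) : b ∈ A := by
  have h3 : ((1 : ℕ) : ℤ) = m * Nat.gcdA m r + r * Nat.gcdB m r := by
    rw [← Nat.gcd_eq_gcd_ab, h]
  have h4 : b = (b ^ m) ^ Nat.gcdA m r * (b ^ r) ^ Nat.gcdB m r := by
    have h5 : b ^ ((1 : ℕ) : ℤ) = b := by rw [zpow_natCast, pow_one]
    rw [h3, zpow_add, zpow_mul, zpow_mul, zpow_natCast, zpow_natCast] at h5
    exact h5.symm
  rw [h4]
  exact mul_mem (zpow_mem h1 _) (zpow_mem h2 _)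

omit [Finite H] in
theorem conj_cent (g a : H) : centralizer ({g * a * g⁻¹} : Set H) = (centralizer {a}).map (MulAut.conj g).toMonoidHom := by
  ext y
  rw [mem_centralizer_singleton_iff, mem_map]
  constructor
  · intro h
    refine ⟨g⁻¹ * y * g, ?_, ?_⟩
    · rw [mem_centralizer_singleton_iff]
      calc g⁻¹ * y * g * a = g⁻¹ * (y * (g * a * g⁻¹)) * g := by group
        _ = g⁻¹ * (g * a * g⁻¹ * y) * g := by rw [h]
        _ = a * (g⁻¹ * y * g) := by group
    · show g * (g⁻¹ * y * g) * g⁻¹ = y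
      group
  · rintro ⟨z, hz, rfl⟩
    rw [mem_centralizer_singleton_iff] at hz
    show g * z * g⁻¹ * (g * a * g⁻¹) = g * a * g⁻¹ * (g * z * g⁻¹)
    calc g * z * g⁻¹ * (g * a * g⁻¹) = g * (z * a) * g⁻¹ := by group
      _ = g * (a * z) * g⁻¹ := by rw [hz]
      _ = g * a * g⁻¹ * (g * z * g⁻¹) := by group

omit [Finite H] in
theorem mem_norm_of_conj_cent {A : Subgroup H} {g a : H} (ha : centralizer {a} = A) (hg : centralizer {g * a * g⁻¹} = A) :
    g ∈ normalizer (A : Set H) := by
  rw [conj_cent, ha] at hg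
  rw [mem_normalizer_iff]
  intro h
  constructor
  · intro hh
    rw [← hg]
    exact ⟨h, hh, rfl⟩
  · intro hh
    rw [← hg] at hh
    obtain ⟨z, hz, hzz⟩ := hh
    have h1 : g * z * g⁻¹ = g * h * g⁻¹ := hzz
    have h2 : z = h := by simpa using h1
    rwa [← h2]

/-- **Counting.** -/
theorem count (hM : 1 < M) (hbig : ∀ r, r.Prime → r ∣ M → Big H r M E) {x : H} (hx : orderOf x = M)
    (S : Subgroup H) [S.Normal] (hxS : x ∈ S) :
    ∃ n k, S.index * n ∣ E ∧ Nat.card S = n * M * (1 + k * M) := by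
  classical
  set A := zpowers x with hA
  set N := normalizer (A : Set H) with hN
  have hcA : Nat.card A = M := by rw [hA, Nat.card_zpowers, hx]
  have hM0 : 0 < M := by omega
  -- the elements of prime order
  have hpow : ∀ r, r.Prime → r ∣ M → orderOf (x ^ (M / r)) = r := by
    intro r hr hrM
    rw [orderOf_pow_of_dvd (by
      have := Nat.div_pos (Nat.le_of_dvd hM0 hrM) hr.pos
      omega) (by rw [hx]; exact Nat.div_dvd_of_dvd hrM), hx, Nat.div_div_self hrM hM0.ne']
  have hcyc : IsCyclic ↥A := inferInstance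
  have hAN : A ≤ N := le_normalizer
  -- the normaliser
  have hNcard : Nat.card N ∣ E * M := by
    obtain ⟨r, hr, hrM⟩ := Nat.exists_prime_and_dvd hM.ne'
    have hxr := hpow r hr hrM
    refine (Subgroup.card_dvd_of_le ?_).trans ((hbig r hr hrM).card_normalizer_dvd hxr)
    intro y hy
    rw [mem_normalizer_iff]
    have key : ∀ y ∈ N, ∀ h ∈ zpowers (x ^ (M / r)), y * h * y⁻¹ ∈ zpowers (x ^ (M / r)) := by
      intro y hy h hh
      have h1 : h ∈ A := by
        obtain ⟨i, rfl⟩ := hh
        exact zpow_mem (pow_mem (mem_zpowers x) _) i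
      have h2 : y * h * y⁻¹ ∈ A := (mem_normalizer_iff.1 hy h).1 h1
      refine mem_zpowers_of_cyclic hcyc (pow_mem (mem_zpowers x) _) h2 ?_
      have h3 : orderOf (y * h * y⁻¹) = orderOf h := by
        rw [← MulAut.conj_apply]; exact (MulAut.conj y).orderOf_eq h
      rw [h3]
      exact orderOf_dvd_of_mem_zpowers hh
    intro h
    refine ⟨fun hh => key y hy h hh, fun hh => ?_⟩
    have h1 := key y⁻¹ (inv_mem hy) _ hh
    have h2 : y⁻¹ * (y * h * y⁻¹) * y⁻¹⁻¹ = h := by group
    rwa [h2] at h1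
  -- the relative index
  have hrel : A.relIndex N ∣ E := by
    have h1 : Nat.card A * A.relIndex N = Nat.card N := by
      have h3 := relIndex_mul_relIndex (H := ⊥) (K := A) (L := N) bot_le hAN
      rwa [relIndex_bot_left, relIndex_bot_left] at h3
    rw [hcA] at h1
    rw [← h1, mul_comm M] at hNcard
    exact Nat.dvd_of_mul_dvd_mul_right hM0 hNcard
  -- elements of prime order of `N` dividing `M` lie in `A`
  have hmem : ∀ b ∈ N, ∀ r, r.Prime → r ∣ M → orderOf b = r → b ∈ A := by
    intro b hb r hr hrM hbr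
    have hn : (A.subgroupOf N).Normal := normal_in_normalizer
    have h1 := (A.subgroupOf N).pow_index_mem ⟨b, hb⟩
    have h2 : b ^ A.relIndex N ∈ A := h1
    refine mem_of_coprime h2 (r := r) (by rw [← hbr, pow_orderOf_eq_one]; exact one_mem _) ?_
    exact ((Nat.Prime.coprime_iff_not_dvd hr).2 fun h => (hbig r hr hrM).ndvd (h.trans hrel)).symm
  -- the action
  have hcent : ∀ a ∈ A, ∀ r, r.Prime → r ∣ M → orderOf a = r → centralizer {a} = A := fun a ha r hr hrM har =>
    cent_eq hbig hx ha hr hrM har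
  have hfix : ∀ a ∈ A, a ≠ 1 → ∀ g : H, g⁻¹ * a * g ∈ N → g ∈ N := by
    intro a ha ha1 g hg
    have ho1 : orderOf a ≠ 1 := fun h => ha1 (orderOf_eq_one_iff.1 h)
    obtain ⟨r, hr, hrd⟩ := Nat.exists_prime_and_dvd ho1
    have hoM : orderOf a ∣ M := by rw [← hx]; exact orderOf_dvd_of_mem_zpowers ha
    have hrM := hrd.trans hoM
    have ho0 : 0 < orderOf a := orderOf_pos a
    have hb : orderOf (a ^ (orderOf a / r)) = r := by
      rw [orderOf_pow_of_dvd (by
        have := Nat.div_pos (Nat.le_of_dvd ho0 hrd) hr.pos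
        omega) (Nat.div_dvd_of_dvd hrd), Nat.div_div_self hrd ho0.ne']
    have h1 : g⁻¹ * a ^ (orderOf a / r) * g ∈ N := by
      have h2 := pow_mem hg (orderOf a / r)
      have h3 : g⁻¹ * a ^ (orderOf a / r) * g = (g⁻¹ * a * g⁻¹⁻¹) ^ (orderOf a / r) := by
        rw [conj_pow, inv_inv]
      rw [h3, inv_inv]
      exact h2
    have h2 : orderOf (g⁻¹ * a ^ (orderOf a / r) * g) = r := by
      have h3 : g⁻¹ * a ^ (orderOf a / r) * g = MulAut.conj g⁻¹ (a ^ (orderOf a / r)) := by
        rw [MulAut.conj_apply, inv_inv]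
      rw [h3, (MulAut.conj g⁻¹).orderOf_eq, hb]
    have h3 := hmem _ h1 r hr hrM h2
    have h4 : g⁻¹ ∈ N := by
      refine mem_norm_of_conj_cent (A := A) (a := a ^ (orderOf a / r)) (hcent _ (pow_mem ha _) r hr hrM hb) ?_
      rw [inv_inv]
      exact hcent _ h3 r hr hrM h2
    simpa using inv_mem h4
  -- counting in `S`
  have hAS : A ≤ S := by rw [hA, zpowers_le]; exact hxS
  set K : Subgroup S := N.subgroupOf S with hK
  set A' : Subgroup S := A.subgroupOf S with hA'
  have hA'K : A' ≤ K := fun a ha => hAN ha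
  have hcA' : Nat.card A' = M := by
    rw [← hcA]
    exact Nat.card_congr (subgroupOfEquivOfLe hAS).toEquiv
  have hcount : ∃ k, K.index = 1 + k * M := by
    have hfin : Finite (S ⧸ K) := inferInstance
    have h1 : ∀ a : A', a ≠ 1 → MulAction.fixedBy (S ⧸ K) a = {((1 : S) : S ⧸ K)} := by
      intro a ha
      ext y
      induction y using QuotientGroup.induction_on with
      | H g =>
      rw [MulAction.mem_fixedBy, Set.mem_singleton_iff]
      have h2 : a • (g : S ⧸ K) = (((a : S) * g : S) : S ⧸ K) := rfl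
      rw [h2]
      constructor
      · intro h
        rw [QuotientGroup.eq] at h
        have h3 := inv_mem h
        have h4 : (g : H)⁻¹ * ((a : S) : H) * (g : H) ∈ N := by
          have h5 : (((((a : S) * g)⁻¹ * g)⁻¹ : S) : H) = (g : H)⁻¹ * ((a : S) : H) * (g : H) := by
            push_cast
            group
          rw [← h5]
          exact h3
        have h6 := hfix ((a : S) : H) a.2 (fun h => ha (Subtype.ext (Subtype.ext h))) g h4
        rw [QuotientGroup.eq, mul_one]
        exact inv_mem h6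
      · intro h
        rw [h]
        rw [QuotientGroup.eq] at h ⊢
        rw [mul_one] at h ⊢
        exact inv_mem (mul_mem (hA'K a.2) (by simpa using inv_mem h))
    have : Fintype A' := Fintype.ofFinite _
    have h2 := Nat.card_congr (MulAction.sigmaFixedByEquivOrbitsProdGroup A' (S ⧸ K))
    rw [Nat.card_sigma, Nat.card_prod, hcA', ← Finset.add_sum_erase _ _ (Finset.mem_univ (1 : A'))] at h2
    have h3 : Nat.card (MulAction.fixedBy (S ⧸ K) (1 : A')) = K.index := by
      rw [Subgroup.index]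
      refine Nat.card_congr ((Equiv.setCongr ?_).trans (Equiv.Set.univ _))
      ext y
      simp
    have h4 : ∑ a ∈ Finset.univ.erase (1 : A'), Nat.card (MulAction.fixedBy (S ⧸ K) a) = M - 1 := by
      rw [Finset.sum_congr rfl (g := fun _ => 1) (fun a ha => by
        rw [h1 a (Finset.ne_of_mem_erase ha), Nat.card_eq_fintype_card, Set.card_singleton]), Finset.sum_const,
        Finset.card_erase_of_mem (Finset.mem_univ _), Finset.card_univ, ← Nat.card_eq_fintype_card, hcA']
      simp
    rw [h3, h4] at h2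
    have h5 : 0 < K.index := Nat.pos_of_ne_zero Subgroup.index_ne_zero_of_finite
    set o := Nat.card (Quotient (MulAction.orbitRel A' (S ⧸ K))) with ho
    have h6 : 1 ≤ o := by
      by_contra h
      have h7 : o = 0 := by omega
      rw [h7, zero_mul] at h2
      omega
    refine ⟨o - 1, ?_⟩
    obtain ⟨o', ho'⟩ : ∃ o', o = o' + 1 := ⟨o - 1, by omega⟩
    rw [ho', add_mul, one_mul] at h2
    rw [ho', Nat.add_sub_cancel]
    omega
  obtain ⟨k, hk⟩ := hcount
  -- the normaliser in `S`
  have hAKi : ∃ n, Nat.card K = n * M := by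
    obtain ⟨n, hn⟩ := Subgroup.card_dvd_of_le hA'K
    exact ⟨n, by rw [hn, hcA', mul_comm]⟩
  obtain ⟨n, hn⟩ := hAKi
  refine ⟨n, k, ?_, ?_⟩
  · -- Frattini
    obtain ⟨r, hr, hrM⟩ := Nat.exists_prime_and_dvd hM.ne'
    have : Fact r.Prime := ⟨hr⟩
    have hxr := hpow r hr hrM
    obtain ⟨P, hP⟩ : ∃ P : Sylow r S, zpowers (⟨x ^ (M / r), pow_mem hxS _⟩ : S) ≤ P := by
      refine IsPGroup.exists_le_sylow ?_
      refine IsPGroup.of_card (n := 1) ?_
      rw [Nat.card_zpowers, Subgroup.orderOf_mk, hxr, pow_one]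
    have hfr := Sylow.normalizer_sup_eq_top P
    set P' : Subgroup H := (P : Subgroup S).map S.subtype with hP'
    have hPc : IsCyclic ↥P' := (hbig r hr hrM).isCyclic_of_isPGroup (P.2.map _)
    have hxP : x ^ (M / r) ∈ P' := ⟨⟨x ^ (M / r), pow_mem hxS _⟩, hP (mem_zpowers _), rfl⟩
    have hPN : normalizer (P' : Set H) ≤ N := by
      intro y hy
      refine mem_norm_of_conj_cent (A := A) (hcent _ (pow_mem (mem_zpowers x) _) r hr hrM hxr) ?_
      have h1 : y * x ^ (M / r) * y⁻¹ ∈ P' := (mem_normalizer_iff.1 hy _).1 hxP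
      have h2 : orderOf (y * x ^ (M / r) * y⁻¹) = r := by
        rw [← MulAut.conj_apply, (MulAut.conj y).orderOf_eq, hxr]
      have h3 := mem_zpowers_of_cyclic hPc hxP h1 (by rw [h2, hxr])
      refine hcent _ ?_ r hr hrM h2
      exact (zpowers_le.2 (pow_mem (mem_zpowers x) _)) h3
    have h1 : N ⊔ S = ⊤ := by
      rw [eq_top_iff, ← hfr]
      exact sup_le_sup_right hPN _
    have h2 : S.index = S.relIndex N := by
      rw [← Subgroup.relIndex_top_right, ← h1, sup_comm, relIndex_sup_left]
    have h3 : Nat.card K * S.relIndex N = Nat.card N := by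
      have h4 : Nat.card K = Nat.card ↥(S.subgroupOf N) := by
        have e1 : Nat.card ↥(N.subgroupOf S) = Nat.card ↥(N ⊓ S) := by
          rw [← inf_subgroupOf_right N S]
          exact Nat.card_congr (subgroupOfEquivOfLe inf_le_right).toEquiv
        have e2 : Nat.card ↥(S.subgroupOf N) = Nat.card ↥(S ⊓ N) := by
          rw [← inf_subgroupOf_right S N]
          exact Nat.card_congr (subgroupOfEquivOfLe inf_le_right).toEquiv
        rw [hK, e1, e2, inf_comm]
      rw [h4]
      exact (S.subgroupOf N).card_mul_index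
    rw [h2]
    rw [hn] at h3
    rw [← h3] at hNcard
    have h5 : S.relIndex N * n * M ∣ E * M := by
      have : S.relIndex N * n * M = n * M * S.relIndex N := by ring
      rwa [this]
    exact Nat.dvd_of_mul_dvd_mul_right hM0 h5
  · have h1 := K.card_mul_index
    rw [hn, hk] at h1
    exact h1.symm

end Cfsg.Agent.H351.CovF4
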