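import Cfsg.Agent.H351.CovF4.Main1
import Cfsg.Agent.H351.CovF4.LinKill
import Cfsg.Agent.H351.CovF4.OmKill
import Cfsg.Agent.SmallSimple.EvenOrder

/-!
# Overgroups of the torus of order `q⁴ + 1` in `F₄(q)`, `q` even (helper351, for S2499)

`eight` : a proper subgroup of `F₄(q)`, `q` even, containing an element of order `q⁴ + 1`, has no elements of order
divisible by 16 or by `4 r`, `r` primitive of order 3.
-/

set_option autoImplicit false
set_option exponentiation.threshold 700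

namespace Cfsg.Agent.H351.CovF4

open Cfsg Cfsg.Agent.OrdDiv Cfsg.Agent.H436 Cfsg.Agent.H902 Cfsg.Agent.H902.Names Cfsg.Agent.H915.GN
  Cfsg.Agent.H290.ElReg Cfsg.Agent.H290.ElTab Cfsg.Agent.H290.ElCross Cfsg.Agent.H264.FKS Cfsg.Agent.H56.Exc
  Cfsg.Agent.H325.Loc Cfsg.Agent.H563.KG Cfsg.Agent.H264.GN Cfsg.Agent.H325.IsoExc

section Gen

variable {G : Type*} [Group G]

theorem pow_mem_of_index (S : Subgroup G) [S.Normal] {m : ℕ} (h : S.index ∣ m) (a : G) : a ^ m ∈ S := by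
  obtain ⟨k, rfl⟩ := h
  rw [pow_mul]
  exact pow_mem (S.pow_index_mem a) k

theorem dvd_card_of_order [Finite G] (S : Subgroup G) {a : G} {m r : ℕ} (hr : r.Prime) (hm : ¬ r ∣ m)
    (hi : S.index ∣ m) (hd : r ∣ orderOf a) : r ∣ Nat.card S := by
  have h1 := hd.trans (orderOf_dvd_natCard a)
  rw [← S.card_mul_index] at h1
  exact (hr.dvd_mul.1 h1).resolve_right fun h => hm (h.trans hi)

theorem order_pow [Finite G] {a : G} {n m k : ℕ} (h : n ∣ orderOf a) (hn : n = m * k) (hk : k ≠ 0) :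
    ∃ b : G, orderOf b = n ∧ orderOf (b ^ k) = m := by
  obtain ⟨i, hi⟩ := exists_pow_order h (orderOf_pos a).ne'
  refine ⟨a ^ i, hi, ?_⟩
  rw [orderOf_pow_of_dvd hk (by rw [hi, hn]; exact Dvd.intro_left _ rfl), hi, hn, Nat.mul_div_cancel _ (Nat.pos_of_ne_zero hk)]

/-- an element centralising the simple normal subgroup is trivial -/
theorem cent_trivial [Finite G] {M E : ℕ} (hM : 1 < M) (hbig : ∀ r, r.Prime → r ∣ M → Big G r M E) {x : G}
    (hx : orderOf x = M) (S : Subgroup G) (hxS : x ∈ S) (hs : IsSimpleGroup S) (hna : ¬ IsMulCommutative S) {h : G}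
    (hc : ∀ s ∈ S, h * s = s * h) : h = 1 := by
  obtain ⟨r, hr, hrM⟩ := Nat.exists_prime_and_dvd (n := M) (by omega)
  have hM0 : 0 < M := by omega
  have h1 : orderOf (x ^ (M / r)) = r := by
    rw [orderOf_pow_of_dvd (by
      have := Nat.div_pos (Nat.le_of_dvd hM0 hrM) hr.pos
      omega) (by rw [hx]; exact Nat.div_dvd_of_dvd hrM), hx, Nat.div_div_self hrM hM0.ne']
  have h2 := cent_eq hbig hx (pow_mem (Subgroup.mem_zpowers x) (M / r)) hr hrM h1
  have h3 : h ∈ Subgroup.centralizer {x ^ (M / r)} :=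
    Subgroup.mem_centralizer_singleton_iff.2 (hc _ (pow_mem hxS _))
  rw [h2] at h3
  have h4 : h ∈ S := (Subgroup.zpowers_le.2 hxS) h3
  have h5 : (⟨h, h4⟩ : S) ∈ Subgroup.center S :=
    Subgroup.mem_center_iff.2 fun s => Subtype.ext (hc s s.2).symm
  rcases hs.eq_bot_or_eq_top_of_normal (Subgroup.center S) inferInstance with h6 | h6
  · rw [h6, Subgroup.mem_bot] at h5
    exact congrArg Subtype.val h5
  · exfalso
    apply hna
    refine ⟨⟨fun a b => ?_⟩⟩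
    have h7 : b ∈ Subgroup.center S := by rw [h6]; trivial
    exact Subgroup.mem_center_iff.1 h7 a

end Gen

theorem c8' : Cls 8 := by unfold Cls; omega
theorem c12' : Cls 12 := by unfold Cls; omega

theorem charP2 {F : Type} [Field F] [Fintype F] {k : ℕ} (h : Fintype.card F = 2 ^ k) : CharP F 2 :=
  have : Fact (Nat.Prime 2) := ⟨Nat.prime_two⟩
  Cfsg.Agent.H325.Same.charP_of_card Nat.prime_two h

/-! ### the primes of class 3 -/

section Three

variable {q r : ℕ}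

theorem prim3_gt (hq : 2 ≤ q) (hr : Prim q 3 r) : 3 < r := lt_of_prim hq (by norm_num) hr

theorem prim3_not (hq : 2 ≤ q) (hr : Prim q 3 r) {m : ℕ} (hm : ∀ s, s.Prime → s ∣ m → s ≤ 3) : ¬ r ∣ m := fun h => by
  have := hm r hr.prime h
  have := prim3_gt hq hr
  omega

theorem le3_of_dvd {m : ℕ} (hm : m ∣ 2 ^ 5 * 3 ^ 5) : ∀ s, s.Prime → s ∣ m → s ≤ 3 := by
  intro s hs h
  rcases hs.dvd_mul.1 (h.trans hm) with h1 | h1
  · have := Nat.le_of_dvd (by norm_num) (hs.dvd_of_dvd_pow h1)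
    omega
  · have := Nat.le_of_dvd (by norm_num) (hs.dvd_of_dvd_pow h1)
    omega

end Three

/-! ### the linear groups -/

section Cases

variable {G : Type} [Group G] [Finite G] (S : Subgroup G) [S.Normal] {q r : ℕ}

theorem eight_psl2 (hq : 2 ≤ q) (hi : S.index ∣ 4) {f : ℕ} (hf : q = 2 ^ f) (hg : IsNamed (.psl 2 (q ^ 4)) S) (h : G) :
    ¬ 16 ∣ orderOf h ∧ ∀ r, Prim q 3 r → ¬ 4 * r ∣ orderOf h := by
  constructor
  · intro hd
    obtain ⟨F, _, _, hF, ⟨e⟩⟩ := hg.real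
    have := charP2 (F := F) (k := f * 4) (by rw [hF, hf, pow_mul])
    obtain ⟨b, hb, hb4⟩ := order_pow (m := 4) (k := 4) hd (by norm_num) (by norm_num)
    refine psl2_four e ⟨b ^ 4, pow_mem_of_index S hi b⟩ ?_
    rw [Subgroup.orderOf_mk, hb4]
  · intro r hr hd
    have h1 := dvd_card_of_order S (m := 4) hr.prime (prim3_not hq hr (le3_of_dvd (by norm_num))) hi
      ((Dvd.intro_left _ rfl).trans hd)
    have h2 : r ∣ num (.psl 2 (q ^ 4)) := by
      rw [← hg.eq]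
      exact h1.mul_left _
    have h3 : num (.psl 2 (q ^ 4)) = ((q ^ 4) ^ 2 - (q ^ 4) ^ 0) * (((q ^ 4) ^ 2 - (q ^ 4) ^ 1) * 1) := rfl
    rw [h3, mul_one, pow_zero, pow_one, ← pow_mul] at h2
    have h4 : q ^ (4 * 2) - q ^ 4 = q ^ 4 * (q ^ 4 - 1) := by
      rw [Nat.mul_sub, mul_one, ← pow_add]
    rw [h4] at h2
    rcases hr.prime.dvd_mul.1 h2 with h5 | h5
    · exact hr.not_dvd_sub (by norm_num) h5
    · rcases hr.prime.dvd_mul.1 h5 with h6 | h6
      · exact hr.not_dvd_pow 4 h6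
      · exact hr.not_dvd_sub (by norm_num) h6

theorem eight_psp2 (hq : 2 ≤ q) (hi : S.index ∣ 2) {f : ℕ} (hf : q = 2 ^ f) (hg : IsNamed (.psp 2 (q ^ 2)) S) (h : G) :
    ¬ 16 ∣ orderOf h ∧ ∀ r, Prim q 3 r → ¬ 4 * r ∣ orderOf h := by
  constructor
  · intro hd
    obtain ⟨F, _, _, hF, ⟨e⟩⟩ := hg.real
    have := charP2 (F := F) (k := f * 2) (by rw [hF, hf, pow_mul])
    obtain ⟨b, hb, hb4⟩ := order_pow (m := 8) (k := 2) hd (by norm_num) (by norm_num)
    refine psp_pow (b := 2) (by norm_num) e ⟨b ^ 2, pow_mem_of_index S hi b⟩ ?_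
    rw [Subgroup.orderOf_mk, hb4]
    norm_num
  · intro r hr hd
    have h1 := dvd_card_of_order S (m := 2) hr.prime (prim3_not hq hr (le3_of_dvd (by norm_num))) hi
      ((Dvd.intro_left _ rfl).trans hd)
    have h2 : r ∣ num (.psp 2 (q ^ 2)) := by
      rw [← hg.eq]
      exact h1.mul_left _
    have h3 : num (.psp 2 (q ^ 2)) = (q ^ 2) ^ 4 * (((q ^ 2) ^ 2 - 1) * (((q ^ 2) ^ 4 - 1) * 1)) := rfl
    rw [h3, mul_one, ← pow_mul, ← pow_mul] at h2
    rcases hr.prime.dvd_mul.1 h2 with h5 | h5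
    · exact hr.not_dvd_pow _ h5
    · rcases hr.prime.dvd_mul.1 h5 with h6 | h6
      · exact hr.not_dvd_sub (by norm_num) h6
      · exact hr.not_dvd_sub (by norm_num) h6

omit [Finite G] in
theorem eight_psp4 (hi : S.index ∣ 1) {f : ℕ} (hf : q = 2 ^ f) (hg : IsNamed (.psp 4 q) S) (h : G) :
    ¬ 16 ∣ orderOf h ∧ ∀ r, Prim q 3 r → ¬ 4 * r ∣ orderOf h := by
  obtain ⟨F, _, _, hF, ⟨e⟩⟩ := hg.real
  have := charP2 (F := F) (k := f) (by rw [hF, hf])
  have hh : h ∈ S := by simpa using pow_mem_of_index S hi h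
  constructor
  · intro hd
    refine psp_pow (b := 3) (by norm_num) e ⟨h, hh⟩ ?_
    rw [Subgroup.orderOf_mk]
    exact hd
  · intro r hr hd
    refine psp4_four (r := r) (by rw [hF]; exact hr) e ⟨h, hh⟩ ?_
    rw [Subgroup.orderOf_mk]
    exact hd

omit [Finite G] in
theorem eight_om (hi : S.index ∣ 2) {f : ℕ} (hf1 : 1 ≤ f) (hf : q = 2 ^ f) (hC : ∀ h : G, (∀ s ∈ S, h * s = s * h) → h = 1)
    (hg : IsNamed (.ominus 4 q) S) (h : G) :
    ¬ 16 ∣ orderOf h ∧ ∀ r, Prim q 3 r → ¬ 4 * r ∣ orderOf h := by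
  obtain ⟨F, _, _, a, b, hF, hab, ⟨e⟩⟩ := hg.real
  have h1 := omega_kill (F := F) (f := f) hf1 (by rw [hF, hf]) hab S (fun h => by
    rw [← sq]
    exact pow_mem_of_index S hi h) hC e h
  rw [hF] at h1
  exact h1

end Cases

/-! ### the setup -/

section Setup

variable {F : Type} [Field F] [Fintype F] [CharP F 2] {f : ℕ}

omit [CharP F 2] in
theorem cardF4 (tb : OrderTable.{0}) (hF : Fintype.card F = 2 ^ f) (B : Subgroup ↥(Lie.chevF4.group F)) :
    Nat.card B ∣ num (.f4 (2 ^ f)) := by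
  have hT := named_f4 (F := F) tb
  rw [hF] at hT
  refine (Subgroup.card_subgroup_dvd_card B).trans ?_
  rw [← hT.eq]
  exact Dvd.intro_left _ rfl

omit [CharP F 2] in
theorem big8 (hF : Fintype.card F = 2 ^ f) (r : ℕ) (hr : r.Prime) (h : r ∣ (2 ^ f) ^ 4 + 1) (hf : 1 ≤ f) :
    Big ↥(Lie.chevF4.group F) r ((2 ^ f) ^ 4 + 1) 8 := by
  have hm8 : (((2 ^ f) ^ 4 + 1 : ℕ) : ℤ) = 1 + ((2 ^ f : ℕ) : ℤ) ^ 4 := by push_cast; ring
  have hP := prim_of_dvd c8' (q := 2 ^ f) Nat.one_le_two_pow hr (by rw [ncl8_eq2 hf]; exact h)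
  exact big_F4_8 hF hm8 hP

omit [CharP F 2] in
theorem big12 (hF : Fintype.card F = 2 ^ f) (r : ℕ) (hr : r.Prime) (h : r ∣ (2 ^ f) ^ 4 - (2 ^ f) ^ 2 + 1) :
    Big ↥(Lie.chevF4.group F) r ((2 ^ f) ^ 4 - (2 ^ f) ^ 2 + 1) 12 := by
  have hle : (2 ^ f) ^ 2 ≤ (2 ^ f) ^ 4 := Nat.pow_le_pow_right (by positivity) (by norm_num)
  have hm12 : (((2 ^ f) ^ 4 - (2 ^ f) ^ 2 + 1 : ℕ) : ℤ) = 1 - ((2 ^ f : ℕ) : ℤ) ^ 2 + ((2 ^ f : ℕ) : ℤ) ^ 4 := by
    push_cast [Nat.cast_sub hle]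
    ring
  have hP := prim_of_dvd c12' (q := 2 ^ f) Nat.one_le_two_pow hr (by
    rw [ncl12_eq, Ph12_eq Nat.one_le_two_pow]
    have h1 : (2 ^ f) ^ 4 - (2 ^ f) ^ 2 = (2 ^ f) ^ 2 * ((2 ^ f) ^ 2 - 1) := by
      rw [Nat.mul_sub, mul_one, ← pow_add]
    rw [← h1]
    exact h)
  exact big_F4_12 hF hm12 hP

theorem f4_two : num (.f4 (2 ^ 1)) = 2 ^ 24 * 3 ^ 6 * 5 ^ 2 * 7 ^ 2 * 13 * 17 := by decide +kernel

theorem prime_f4 {t : ℕ} (ht : t.Prime) (h : t ∣ num (.f4 (2 ^ 1))) : t = 2 ∨ t = 3 ∨ t = 5 ∨ t = 7 ∨ t = 13 ∨ t = 17 := by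
  rw [f4_two] at h
  rcases ht.dvd_mul.1 h with h | h
  · rcases ht.dvd_mul.1 h with h | h
    · rcases ht.dvd_mul.1 h with h | h
      · rcases ht.dvd_mul.1 h with h | h
        · rcases ht.dvd_mul.1 h with h | h
          · exact Or.inl ((Nat.prime_dvd_prime_iff_eq ht (by norm_num)).1 (ht.dvd_of_dvd_pow h))
          · exact Or.inr (Or.inl ((Nat.prime_dvd_prime_iff_eq ht (by norm_num)).1 (ht.dvd_of_dvd_pow h)))
        · exact Or.inr (Or.inr (Or.inl ((Nat.prime_dvd_prime_iff_eq ht (by norm_num)).1 (ht.dvd_of_dvd_pow h))))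
      · exact Or.inr (Or.inr (Or.inr (Or.inl ((Nat.prime_dvd_prime_iff_eq ht (by norm_num)).1 (ht.dvd_of_dvd_pow h)))))
    · exact Or.inr (Or.inr (Or.inr (Or.inr (Or.inl ((Nat.prime_dvd_prime_iff_eq ht (by norm_num)).1 h)))))
  · exact Or.inr (Or.inr (Or.inr (Or.inr (Or.inr ((Nat.prime_dvd_prime_iff_eq ht (by norm_num)).1 h)))))

/-- reducedness -/
theorem red8 (tb : OrderTable.{0}) (hcyc : CycFixSolv.{0}) (hf : 1 ≤ f) (hF : Fintype.card F = 2 ^ f)
    {B : Subgroup ↥(Lie.chevF4.group F)} (hMB : (2 ^ f) ^ 4 + 1 ∣ Nat.card B) : Red ↥B (Pr (Fm1 ((2 ^ f) ^ 4 + 1) 8)) := by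
  have h8 := ncl8_eq2 hf
  have hq1 : 1 ≤ 2 ^ f := Nat.one_le_two_pow
  have hq2 : 2 ≤ 2 ^ f := Nat.le_self_pow (by omega) 2
  obtain ⟨r₀, hr₀⟩ := exists_prim hq2 (show 3 ≤ 8 by norm_num) (by norm_num)
  have hpiso : PIso 2 r₀ ↥(Lie.chevF4.group F) := piso_F4 (F := F) (Or.inl rfl) (by rw [hF]; exact hr₀)
  have hr₀M : r₀ ∣ (2 ^ f) ^ 4 + 1 := by rw [← h8]; exact dvd_ncl c8' hq1 hr₀
  have hord : Ord ↥(Lie.chevF4.group F) (2 ^ f) 8 ((2 ^ f) ^ 4 + 1) := fun r hr x hx =>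
    (big8 hF r hr.prime (by rw [← h8]; exact dvd_ncl c8' hq1 hr) hf).card x hx
  refine red_good hcyc Nat.prime_two (F := F) fth_F4 (fun r hr hrM => big8 hF r hr hrM hf) hr₀.prime hr₀M hpiso hMB ?_
  intro t ht ht2 htM htB
  have hMB' : ncl 8 (2 ^ f) ∣ Nat.card B := by rw [h8]; exact hMB
  by_cases hf2 : 2 ≤ f
  · refine good_one (hord.sub B) c8' hq1 ht htM ?_ hMB'
    have := (ncl8_ge hf).2 hf2
    omega
  · obtain rfl : f = 1 := by omega
    have h17 : ncl 8 (2 ^ 1) = 17 := by rw [h8]; norm_num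
    refine good_pr (hord.sub B) c8' hq1 ht htM (by rw [h17]; norm_num) hMB' ?_
    intro k hk hkB
    have h1 := hkB.trans (cardF4 tb hF B)
    have h2 : t ∣ num (.f4 (2 ^ 1)) := (dvd_pow_self t (by omega)).trans h1
    have h3 := h1
    rw [f4_two] at h3
    rw [h17]
    rcases prime_f4 ht h2 with rfl | rfl | rfl | rfl | rfl | rfl
    · exact absurd rfl ht2
    · have h4 : k ≤ 6 := pow_bound (by decide +kernel) h3
      interval_cases k <;> norm_num
    · have h4 : k ≤ 2 := pow_bound (by decide +kernel) h3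
      interval_cases k <;> norm_num
    · have h4 : k ≤ 2 := pow_bound (by decide +kernel) h3
      interval_cases k <;> norm_num
    · have h4 : k ≤ 1 := pow_bound (by decide +kernel) h3
      interval_cases k <;> norm_num
    · exact absurd (by norm_num) htM

omit [CharP F 2] [Field F] [Fintype F] in
theorem small8 {G : Type*} [Group G] [Finite G] (hf : 1 ≤ f) (hG : Nat.card G ∣ 8 * ((2 ^ f) ^ 4 + 1)) (h : G) :
    ¬ 16 ∣ orderOf h ∧ ∀ r, Prim (2 ^ f) 3 r → ¬ 4 * r ∣ orderOf h := by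
  have h1 := (orderOf_dvd_natCard h).trans hG
  have hq2 : 2 ≤ 2 ^ f := Nat.le_self_pow (by omega) 2
  constructor
  · intro hd
    have h2 := hd.trans h1
    have h3 : 8 * 2 ∣ 8 * ((2 ^ f) ^ 4 + 1) := h2
    have h4 := Nat.dvd_of_mul_dvd_mul_left (by norm_num) h3
    have h5 : 2 ∣ (2 ^ f) ^ 4 := (dvd_pow_self 2 (by omega)).trans (dvd_pow_self _ (by norm_num))
    omega
  · intro r hr hd
    rcases hr.prime.dvd_mul.1 (((Dvd.intro_left _ rfl).trans hd).trans h1) with h2 | h2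
    · exact prim3_not hq2 hr (le3_of_dvd (by norm_num)) h2
    · exact hr.not_dvd_add (by norm_num) h2

end Setup

/-! ### the exceptional `L₂(17)` -/

theorem card_of {X : Art.Sh} {l a N c m : ℕ} (h : Art.Real X l a N) (h1 : Art.dd X (l ^ a) = c)
    (h2 : (l ^ a) ^ Art.NN X * numL X (l ^ a) = c * m) (hc : 0 < c) : N = m := by
  have h3 := h.eq
  rw [← numL_eq, h1, h2] at h3
  exact Nat.eq_of_mul_eq_mul_left hc h3

theorem l17_card {N : ℕ} (h : Art.Real (.L 2) 17 1 N) : N = 2448 :=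
  card_of h (c := 2) (by decide +kernel) (by decide +kernel) (by norm_num)

/-- `L₂(17)` has no elements of order 16 -/
theorem no_order16 {S : Type} [Group S] [Finite S] (hna : ¬ IsMulCommutative S) (hs : IsSimpleGroup S)
    (hc : Nat.card S = 2448) (a : S) : ¬ 16 ∣ orderOf a := by
  intro hd
  obtain ⟨b, hb, -⟩ := order_pow (m := 16) (k := 1) hd (by norm_num) (by norm_num)
  have : Fact (Nat.Prime 2) := ⟨Nat.prime_two⟩
  obtain ⟨P, hP⟩ : ∃ P : Sylow 2 S, Subgroup.zpowers b ≤ P := by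
    refine IsPGroup.exists_le_sylow ?_
    refine IsPGroup.of_card (n := 4) ?_
    rw [Nat.card_zpowers, hb]
    norm_num
  have h1 : Nat.card P = 16 := by
    rw [P.card_eq_multiplicity, hc]
    have : (2448 : ℕ).factorization 2 = 4 := by
      rw [show 2448 = 2 ^ 4 * 153 by norm_num, Nat.factorization_mul (by norm_num) (by norm_num),
        Nat.factorization_pow]
      simp [Nat.factorization_eq_zero_of_not_dvd (show ¬ 2 ∣ 153 by norm_num), Nat.prime_two.factorization]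
    rw [this]
    norm_num
  have h2 : Subgroup.zpowers b = (P : Subgroup S) := by
    apply Subgroup.eq_of_le_of_card_ge hP
    rw [Nat.card_zpowers, hb]
    exact h1.le
  refine Cfsg.Agent.SmallSimple.EvenOrder.not_isCyclic_sylow_two hna (by rw [hc]; norm_num) P ?_
  rw [← h2]
  infer_instance

/-- **Overgroups of the torus of order `q⁴ + 1`.** -/
theorem eight (tb : OrderTable.{0}) (hcyc : CycFixSolv.{0}) (hcf : CF) {F : Type} [Field F] [Fintype F] [CharP F 2]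
    {f : ℕ} (hf : 1 ≤ f) (hF : Fintype.card F = 2 ^ f) {B : Subgroup ↥(Lie.chevF4.group F)} (hB : B ≠ ⊤)
    {x : ↥(Lie.chevF4.group F)} (hx : orderOf x = (2 ^ f) ^ 4 + 1) (hxB : x ∈ B) (h : B) :
    ¬ 16 ∣ orderOf h ∧ ∀ r, Prim (2 ^ f) 3 r → ¬ 4 * r ∣ orderOf h := by
  have hq2 : 2 ≤ 2 ^ f := Nat.le_self_pow (by omega) 2
  have hM1 : 1 < (2 ^ f) ^ 4 + 1 := by
    have : 0 < (2 ^ f) ^ 4 := by positivity
    omega
  have h8 := ncl8_eq2 hf
  have hMB : (2 ^ f) ^ 4 + 1 ∣ Nat.card B := by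
    have h1 := orderOf_dvd_natCard (⟨x, hxB⟩ : B)
    rwa [Subgroup.orderOf_mk, hx] at h1
  by_cases hsep : Nat.card B ∣ 8 * ((2 ^ f) ^ 4 + 1)
  · exact small8 hf hsep h
  have hbig : ∀ r, r.Prime → r ∣ (2 ^ f) ^ 4 + 1 → Big ↥(Lie.chevF4.group F) r ((2 ^ f) ^ 4 + 1) 8 :=
    fun r hr hd => big8 hF r hr hd hf
  obtain ⟨S, hSn, hSs, hSna, hxS, hbS, ⟨n, k, hnk, hcard⟩, hdS, hname⟩ := main1 tb hcyc hcf hf hF
    (L := L8) (L' := []) bndR_52_8 sv2_8 bndS_8 svS2_8 c8' (by norm_num) (fun q => le_seven8) h8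
    (by have := (ncl8_ge hf).1; omega) (fun h2 => by
      have := (ncl8_ge hf).2 h2
      omega) hbig hx hxB hsep (red8 tb hcyc hf hF hMB)
  have hSs' : IsSimpleGroup S := hSs
  have hn8 : n ∣ 8 := (Dvd.intro_left _ rfl).trans hnk
  have hC : ∀ h : B, (∀ s ∈ S, h * s = s * h) → h = 1 := fun h hc =>
    cent_trivial hM1 (fun r h1 h2 => (hbig r h1 h2).subgroup B) (x := ⟨x, hxB⟩) (by rw [Subgroup.orderOf_mk, hx]) S hxS
      hSs' hSna hc
  rcases hname with ⟨g, hg, hch⟩ | ⟨hf1, hname⟩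
  · have hdv : ∀ s, Prim 2 (f * 8) s → s ∣ Nat.card S := by
      intro s hs
      have h1 : Prim (2 ^ f) 8 s := prim_pow hf hs
      have h2 : s ∣ (2 ^ f) ^ 4 + 1 := by rw [← h8]; exact dvd_ncl c8' (by omega) h1
      rw [hcard]
      exact (h2.mul_left _).mul_right _
    rcases charp8 hf hn8 hg.cond hch hg.eq hdS hcard hdv with rfl | ⟨rfl, rfl⟩ | ⟨rfl, rfl⟩ | ⟨rfl, rfl⟩ | ⟨rfl, rfl⟩
    · have hT := named_f4 (F := F) tb
      rw [hF] at hT
      exact absurd (eq_top_of_name hT hg) hB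
    · exact eight_psl2 S hq2 (Nat.dvd_of_mul_dvd_mul_right (by norm_num) hnk) rfl hg h
    · exact eight_psp2 S hq2 (Nat.dvd_of_mul_dvd_mul_right (k := 4) (by norm_num) hnk) rfl hg h
    · exact eight_psp4 S (Nat.dvd_of_mul_dvd_mul_right (k := 8) (by norm_num) hnk) rfl hg h
    · exact eight_om S (Nat.dvd_of_mul_dvd_mul_right (k := 4) (by norm_num) hnk) hf rfl hC hg h
  · subst hf1
    rcases hname with ⟨g, X, l, a, hg, hl, hR, hmem⟩ | hmem
    · simp only [L8, List.mem_singleton, Prod.mk.injEq] at hmem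
      obtain ⟨rfl, rfl, rfl⟩ := hmem
      have h1 := l17_card hR
      have hn : n = 8 := by
        rw [hcard] at h1
        norm_num at h1
        have h2 : n ≤ 8 := Nat.le_of_dvd (by norm_num) hn8
        interval_cases n <;> omega
      have hS1 : S.index ∣ 1 := by
        rw [hn] at hnk
        exact Nat.dvd_of_mul_dvd_mul_right (k := 8) (by norm_num) hnk
      have hh : h ∈ S := by simpa using pow_mem_of_index S hS1 h
      have ho : orderOf h = orderOf (⟨h, hh⟩ : S) := (Subgroup.orderOf_mk h hh).symm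
      rw [ho]
      refine ⟨no_order16 hSna hSs' h1 _, fun r hr hd => ?_⟩
      have h2 := ((Dvd.intro_left _ rfl).trans hd).trans (orderOf_dvd_natCard (⟨h, hh⟩ : S))
      rw [h1] at h2
      have h3 := hr.dvd (dvd_refl 3)
      have h4 : r ∣ 7 := h3
      have h5 := (Nat.prime_dvd_prime_iff_eq hr.prime (by norm_num)).1 h4
      rw [h5] at h2
      norm_num at h2
    · simp at hmem

end Cfsg.Agent.H351.CovF4
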