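import Cfsg.Agent.H351.CovF4.Twelve
import Cfsg.Agent.H351.CovF4.EltY
import Cfsg.Agent.H278.Cov.Defs

/-!
# `F₄(q)`, `q` even, is not the union of the conjugates of two proper subgroups (helper351, for S2499)

* `noTwo_chevF4_even` : `NoTwo` for `chevF4.group F`, `F` finite of characteristic 2;
* `noTwo_f4_even` : for every group named `F₄(q)`, `q` even.
-/

set_option autoImplicit false
set_option exponentiation.threshold 700

namespace Cfsg.Agent.H351.CovF4

open Cfsg Cfsg.Agent.OrdDiv Cfsg.Agent.H436 Cfsg.Agent.H56.Exc Cfsg.Agent.H563.KG Cfsg.Agent.H278.Cov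
  Cfsg.Agent.H351.F4Out.Elt

/-- the index of a subgroup containing a full cyclic torus (copy of `H406.Cov.off_one`, helper406) -/
theorem off_one {G : Type*} [Group G] [Finite G] {r m e : ℕ} (hb : Big G r m e) {x : G} (hx : orderOf x = m)
    (hrm : r ∣ m) {B : Subgroup G} (hxB : x ∈ B) : ¬ r ∣ B.index := by
  have hr := hb.prime
  have := Fact.mk hr
  have hm0 : 0 < m := hx ▸ orderOf_pos x
  have hy : orderOf (x ^ (m / r)) = r := by
    rw [orderOf_pow_of_dvd (Nat.div_pos (Nat.le_of_dvd hm0 hrm) hr.pos).ne' (by rw [hx]; exact Nat.div_dvd_of_dvd hrm),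
      hx, Nat.div_div_self hrm hm0.ne']
  set y := x ^ (m / r) with hyd
  have hle : Subgroup.zpowers x ≤ Subgroup.centralizer {y} := by
    rw [Subgroup.zpowers_le, Subgroup.mem_centralizer_singleton_iff]
    exact (Commute.pow_right (Commute.refl x) _).eq
  have hC : Subgroup.zpowers x = Subgroup.centralizer {y} := by
    apply Subgroup.eq_of_le_of_card_ge hle
    rw [Nat.card_zpowers, hx]
    exact Nat.le_of_dvd hm0 (hb.card y hy)
  have hyp : IsPGroup r (Subgroup.zpowers y) := IsPGroup.of_card (n := 1) (by rw [Nat.card_zpowers, hy, pow_one])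
  obtain ⟨P, hP⟩ := hyp.exists_le_sylow
  have hPc := hb.isCyclic_sylow P
  have hPB : (P : Subgroup G) ≤ B := by
    intro a ha
    have h1 : a ∈ Subgroup.centralizer {y} := by
      rw [Subgroup.mem_centralizer_singleton_iff]
      let _ := IsCyclic.commGroup (α := ↥(P : Subgroup G))
      have h1 : (⟨a, ha⟩ : ↥(P : Subgroup G)) * ⟨y, hP (Subgroup.mem_zpowers y)⟩ =
        ⟨y, hP (Subgroup.mem_zpowers y)⟩ * ⟨a, ha⟩ := mul_comm _ _
      exact congrArg Subtype.val h1
    rw [← hC] at h1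
    exact (Subgroup.zpowers_le.2 hxB) h1
  intro h
  exact P.not_dvd_index (h.trans (Subgroup.index_dvd_of_le hPB))

theorem orderOf_cj {G : Type*} [Group G] (g x : G) : orderOf (g * x * g⁻¹) = orderOf x :=
  orderOf_injective (MulAut.conj g).toMonoidHom (MulAut.conj g).injective x

section Four

variable {F : Type} [Field F] [Fintype F] {p f e : ℕ}

/-- the torus generators (copy of `H406.Cov.exists_torus`, helper406) -/
theorem exists_torus (he : e = 12 ∨ e = 8) (hp : p.Prime) (hf : 1 ≤ f) (hq : Fintype.card F = p ^ f) :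
    ∃ x : ↥(Lie.chevF4.group F), orderOf x = Ph e (p ^ f) := by
  have hq1 : 1 ≤ p ^ f := Nat.one_le_pow _ _ hp.pos
  have hq2 : 2 ≤ p ^ f := hp.two_le.trans (Nat.le_self_pow (by omega) p)
  obtain ⟨r, hr⟩ := exists_prim hq2 (show 3 ≤ e by omega) (by omega)
  have hlt := lt_of_prim hq2 (by omega) hr
  have key : ∀ {m : ℕ}, Cfsg.Agent.H129.CycCard.CycCard ↥(Lie.chevF4.group F) r m 1 →
      ∃ x : ↥(Lie.chevF4.group F), orderOf x = m := by
    rintro m ⟨C, hC, h1, h2, -, -⟩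
    obtain ⟨x, hx⟩ := hC.exists_generator
    refine ⟨(x : ↥(Lie.chevF4.group F)), ?_⟩
    rw [Subgroup.orderOf_coe, orderOf_eq_card_of_forall_mem_zpowers hx]
    rw [one_mul] at h2
    exact Nat.dvd_antisymm h1 h2
  rcases he with rfl | rfl
  · exact key (Cfsg.Agent.H129.CycCard.card_F4_12 hq (m := Ph 12 (p ^ f)) (by rw [cast_Ph12 _ hq1]; ring) hr.prime
      (prim_dvd_12 hr))
  · exact key (Cfsg.Agent.H129.CycCard.card_F4_8 hq (m := Ph 8 (p ^ f)) (by rw [cast_Ph8]; ring) hr.prime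
      (prim_dvd_8 hr) (by omega))

/-- the element of order `4 r` -/
theorem exists_four_r [CharP F 2] {r : ℕ} (hr : Prim (Fintype.card F) 3 r) :
    ∃ y : ↥(Lie.chevF4.group F), orderOf y = 4 * r := by
  refine EltY.exists_y hr.prime ?_
  rw [Nat.card_eq_fintype_card]
  have h1 := hr.dvd (dvd_refl 3)
  have h2 := hr.not_dvd_sub (m := 1) (by norm_num)
  rw [pow_one] at h2
  have h3 : Fintype.card F ^ 3 - 1 = (Fintype.card F - 1) * (Fintype.card F ^ 2 + Fintype.card F + 1) := by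
    obtain ⟨c, hc⟩ : ∃ c, Fintype.card F = c + 1 := ⟨Fintype.card F - 1, by
      have := Fintype.card_pos (α := F)
      omega⟩
    rw [hc, Nat.add_sub_cancel]
    have h4 : (c + 1) ^ 3 = c * ((c + 1) ^ 2 + (c + 1) + 1) + 1 := by ring
    omega
  rw [h3] at h1
  exact (hr.prime.dvd_mul.1 h1).resolve_left h2

/-- the combinatorics of the four classes -/
theorem pick {ax az aw ay bx bz bw by' : Prop} (h2 : az ∨ (aw ∧ ay)) (h1 : bx ∨ bz) (h3 : bz ∨ (bw ∧ by'))
    (h4 : ax ∨ aw ∨ ay) (h5 : bx ∨ bw ∨ by') (h6 : ax ∨ az) (cx : ax → ¬ bx) (cz : az → ¬ bz) (cw : aw → ¬ bw)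
    (cy : ay → ¬ by') : False := by
  tauto

/-- **`F₄(q)`, `q` even.** -/
theorem noTwo_chevF4_even (tb : OrderTable.{0}) (hcyc : CycFixSolv.{0}) (hcf : CF) [CharP F 2] :
    NoTwo ↥(Lie.chevF4.group F) := by
  obtain ⟨⟨f, hf⟩, -, hF⟩ := FiniteField.card F 2
  simp only [PNat.mk_coe] at hF
  have hf1 : 1 ≤ f := hf
  have hfin : Finite ↥(Lie.chevF4.group F) := inferInstance
  have hq2 : 2 ≤ 2 ^ f := Nat.le_self_pow (by omega) 2
  have hP12 : Ph 12 (2 ^ f) = (2 ^ f) ^ 4 - (2 ^ f) ^ 2 + 1 := rfl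
  have hP8 : Ph 8 (2 ^ f) = (2 ^ f) ^ 4 + 1 := rfl
  obtain ⟨x, hx⟩ := exists_torus (F := F) (e := 12) (Or.inl rfl) Nat.prime_two hf1 hF
  obtain ⟨z, hz⟩ := exists_torus (F := F) (e := 8) (Or.inr rfl) Nat.prime_two hf1 hF
  obtain ⟨r, hr⟩ := exists_prim hq2 (show 3 ≤ 3 by norm_num) (by norm_num)
  obtain ⟨y, hy⟩ := exists_four_r (F := F) (r := r) (by rw [hF]; exact hr)
  obtain ⟨j, hj, hw⟩ := reg_order_two (F := F)
  rw [hP12] at hx
  rw [hP8] at hz
  -- the two tori
  have hA : ∀ B : Subgroup ↥(Lie.chevF4.group F), B ≠ ⊤ → Av x B ∨ Av z B := by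
    intro B hB
    by_contra hcon
    push Not at hcon
    obtain ⟨g, hg⟩ := not_av hcon.1
    obtain ⟨g', hg'⟩ := not_av hcon.2
    refine hB (K_F4 tb hcyc hcf B fun e he r hr => ?_)
    rw [hF] at hr
    simp only [List.mem_cons, List.not_mem_nil, or_false] at he
    rcases he with rfl | rfl
    · have h1 : r ∣ (2 ^ f) ^ 4 - (2 ^ f) ^ 2 + 1 := by
        rw [← ncl12_two]
        exact dvd_ncl c12' (by omega) hr
      exact off_one (big12 hF r hr.prime h1) (by rw [orderOf_cj, hx]) h1 hg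
    · have h1 : r ∣ (2 ^ f) ^ 4 + 1 := by
        rw [← ncl8_eq2 hf1]
        exact dvd_ncl c8' (by omega) hr
      exact off_one (big8 hF r hr.prime h1 hf1) (by rw [orderOf_cj, hz]) h1 hg'
  -- the torus of order `q⁴ + 1`
  have hC : ∀ B : Subgroup ↥(Lie.chevF4.group F), B ≠ ⊤ → Av z B ∨ (Av (reg F) B ∧ Av y B) := by
    intro B hB
    by_cases hzB : Av z B
    · exact Or.inl hzB
    · right
      obtain ⟨g, hg⟩ := not_av hzB
      constructor
      · intro k hk
        refine (eight tb hcyc hcf hf1 hF hB (x := g * z * g⁻¹) (by rw [orderOf_cj, hz]) hg ⟨_, hk⟩).1 ?_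
        rw [Subgroup.orderOf_mk, orderOf_cj, hw]
        exact pow_dvd_pow 2 hj
      · intro k hk
        refine (eight tb hcyc hcf hf1 hF hB (x := g * z * g⁻¹) (by rw [orderOf_cj, hz]) hg ⟨_, hk⟩).2 r hr ?_
        rw [Subgroup.orderOf_mk, orderOf_cj, hy]
  -- the torus of order `q⁴ - q² + 1`
  have hD : ∀ B : Subgroup ↥(Lie.chevF4.group F), B ≠ ⊤ → Av x B ∨ Av (reg F) B ∨ Av y B := by
    intro B hB
    by_contra hcon
    push Not at hcon
    obtain ⟨g, hg⟩ := not_av hcon.1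
    obtain ⟨g', hg'⟩ := not_av hcon.2.1
    obtain ⟨g'', hg''⟩ := not_av hcon.2.2
    exact twelve tb hcyc hcf hf1 hF hB (x := g * x * g⁻¹) (by rw [orderOf_cj, hx]) hg hg' hr
      (y := ⟨_, hg''⟩) (by rw [Subgroup.orderOf_mk, orderOf_cj, hy])
  intro H K hH hK
  by_contra hcon
  push Not at hcon
  have cx := hcon x
  have cz := hcon z
  have cw := hcon (reg F)
  have cy := hcon y
  exact pick (hC H hH) (hA K hK) (hC K hK) (hD H hH) (hD K hK) (hA H hH) cx cz cw cy

end Four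

/-- **`F₄(q)`, `q` even.** -/
theorem noTwo_f4_even (tb : OrderTable.{0}) (hcyc : CycFixSolv.{0}) (hcf : CF) {q : ℕ} {T : Type*} [Group T]
    (h : IsNamed (.f4 q) T) {f : ℕ} (hq : q = 2 ^ f) : NoTwo T := by
  obtain ⟨F, _, _, hF, ⟨e⟩⟩ := h.real
  have := charP2 (F := F) (k := f) (hF.trans hq)
  exact (noTwo_chevF4_even (F := F) tb hcyc hcf).congr e.symm

end Cfsg.Agent.H351.CovF4
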