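import Cfsg.Agent.H563.KG.KF4

/-!
# Subgroups of `F₄(2)` of order divisible by `13 · 17` (helper351, for S3938 and S2499)

`k_two` : the only subgroup of `F₄(2)` of order divisible by 13 and 17 is the whole group.
-/

set_option autoImplicit false

namespace Cfsg.Agent.H351.CovF4

open Cfsg Cfsg.Agent.OrdDiv Cfsg.Agent.H436 Cfsg.Agent.H56.Exc Cfsg.Agent.H563.KG

theorem prim_two_12 {r : ℕ} (hr : Prim 2 12 r) : r = 13 := by
  have h1 : r ∣ 13 := by
    have h2 := dvd_ncl (e := 12) (by unfold Cls; omega) (by norm_num) hr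
    have h3 : ncl 12 2 = 13 := by decide +kernel
    rwa [h3] at h2
  exact (Nat.prime_dvd_prime_iff_eq hr.prime (by norm_num)).1 h1

theorem prim_two_8 {r : ℕ} (hr : Prim 2 8 r) : r = 17 := by
  have h1 : r ∣ 17 := by
    have h2 := dvd_ncl (e := 8) (by unfold Cls; omega) (by norm_num) hr
    have h3 : ncl 8 2 = 17 := by decide +kernel
    rwa [h3] at h2
  exact (Nat.prime_dvd_prime_iff_eq hr.prime (by norm_num)).1 h1

/-- **`F₄(2)` has no proper subgroup of order divisible by `13 · 17`.** -/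
theorem k_two (tb : OrderTable.{0}) (hcyc : CycFixSolv.{0}) (hcf : CF) {F : Type} [Field F] [Fintype F]
    (hF : Fintype.card F = 2) (B : Subgroup ↥(Lie.chevF4.group F)) (h13 : 13 ∣ Nat.card B) (h17 : 17 ∣ Nat.card B) :
    B = ⊤ := by
  have hT := named_f4 (F := F) tb
  rw [hF] at hT
  have hc : Nat.card ↥(Lie.chevF4.group F) = 2 ^ 24 * 3 ^ 6 * 5 ^ 2 * 7 ^ 2 * 13 * 17 := by
    have h1 := hT.eq
    have h2 : den (.f4 2) = 1 := rfl
    have h3 : num (.f4 2) = 2 ^ 24 * 3 ^ 6 * 5 ^ 2 * 7 ^ 2 * 13 * 17 := by decide +kernel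
    rwa [h2, h3, one_mul] at h1
  have key : ∀ r, r ∣ Nat.card B → ¬ r * r ∣ 2 ^ 24 * 3 ^ 6 * 5 ^ 2 * 7 ^ 2 * 13 * 17 → ¬ r ∣ B.index := by
    intro r h1 h2 h3
    apply h2
    rw [← hc, ← B.card_mul_index]
    exact Nat.mul_dvd_mul h1 h3
  refine K_F4 tb hcyc hcf B fun e he r hr => ?_
  rw [hF] at hr
  simp only [List.mem_cons, List.not_mem_nil, or_false] at he
  rcases he with rfl | rfl
  · rw [prim_two_12 hr]
    exact key 13 h13 (by norm_num)
  · rw [prim_two_8 hr]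
    exact key 17 h17 (by norm_num)

/-- the same for every group named `F₄(2)` -/
theorem k_two' (tb : OrderTable.{0}) (hcyc : CycFixSolv.{0}) (hcf : CF) {T : Type*} [Group T]
    (h : IsNamed (.f4 2) T) (B : Subgroup T) (h13 : 13 ∣ Nat.card B) (h17 : 17 ∣ Nat.card B) : B = ⊤ := by
  obtain ⟨F, _, _, hF, ⟨e⟩⟩ := h.real
  have hc : Nat.card B = Nat.card ↥(B.map e.toMonoidHom) :=
    Nat.card_congr (B.equivMapOfInjective e.toMonoidHom e.injective).toEquiv
  have h1 := k_two tb hcyc hcf hF (B.map e.toMonoidHom) (hc ▸ h13) (hc ▸ h17)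
  rw [eq_top_iff]
  intro x _
  have h2 : e x ∈ B.map e.toMonoidHom := by rw [h1]; trivial
  obtain ⟨y, hy, hyx⟩ := h2
  have h3 : y = x := e.injective hyx
  rwa [← h3]

end Cfsg.Agent.H351.CovF4
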