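import Cfsg.Agent.H351.CovF4.Name
import Cfsg.Agent.H351.CovF4.CharP

/-!
# The simple normal subgroup and its name (helper351, for S2499)
-/

set_option autoImplicit false
set_option exponentiation.threshold 700

namespace Cfsg.Agent.H351.CovF4

open Cfsg Cfsg.Agent.OrdDiv Cfsg.Agent.H436 Cfsg.Agent.H902 Cfsg.Agent.H902.Names Cfsg.Agent.H915.GN
  Cfsg.Agent.H290.ElReg Cfsg.Agent.H290.ElTab Cfsg.Agent.H290.ElCross Cfsg.Agent.H264.FKS Cfsg.Agent.H56.Exc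
  Cfsg.Agent.H325.Loc Cfsg.Agent.H563.KG Cfsg.Agent.H264.GN

/-- the simple normal subgroup of a reduced group -/
theorem core1r (hcyc : CycFixSolv.{0}) {M E : ℕ} (hM : 1 < M)
    {T : Type} [Group T] [Finite T] (hbig : ∀ r, r.Prime → r ∣ M → Big T r M E)
    {B : Subgroup T} {x : T} (hx : orderOf x = M)
    (hxB : x ∈ B) (hsep : ¬ Nat.card B ∣ E * M) (hred : Red ↥B (Pr (Fm1 M E))) :
    ∃ (S : Subgroup B) (_ : S.Normal) (_ : IsSimpleGroup S), ¬ IsMulCommutative S ∧ (⟨x, hxB⟩ : B) ∈ S ∧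
      (∀ r, r.Prime → r ∣ M → Big S r M E) ∧ ∃ n k, S.index * n ∣ E ∧ Nat.card S = n * M * (1 + k * M) := by
  have hMB : M ∣ Nat.card B := by
    have h1 := orderOf_dvd_natCard (⟨x, hxB⟩ : B)
    rwa [Subgroup.orderOf_mk, hx] at h1
  have hrf : RFam ↥B (Fm1 M E) :=
    { big := by
        rintro r m e ⟨h1, h2, rfl, rfl⟩
        exact (hbig r h1 h2).subgroup B
      dvd := by
        rintro r m e ⟨h1, h2, rfl, rfl⟩
        exact h2.trans hMB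
      sep := by
        rintro r m e ⟨h1, h2, rfl, rfl⟩
        exact hsep }
  obtain ⟨r₀, hr₀, hr₀M⟩ := Nat.exists_prime_and_dvd (n := M) (by omega)
  obtain ⟨S, hSn, hSs, hSna, hS⟩ :=
    hrf.exists_full hcyc hred (r₁ := r₀) (m₁ := M) (e₁ := E) ⟨hr₀, hr₀M, rfl, rfl⟩
  have hall : ∀ r, r.Prime → r ∣ M → Big S r M E ∧ r ∣ Nat.card S ∧ ¬ r ∣ S.index ∧ S.index ∣ E * M :=
    fun r h1 h2 => hS r M E ⟨h1, h2, rfl, rfl⟩
  have hcop : S.index.Coprime M := by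
    by_contra hcon
    obtain ⟨r, hr, h1, h2⟩ := Nat.Prime.not_coprime_iff_dvd.1 hcon
    exact (hall r hr h2).2.2.1 h1
  have hxS : (⟨x, hxB⟩ : B) ∈ S := by
    refine mem_of_coprime (S.pow_index_mem _) (r := M) ?_ hcop
    have h1 : (⟨x, hxB⟩ : B) ^ M = 1 := by
      apply Subtype.ext
      show x ^ M = 1
      rw [← hx, pow_orderOf_eq_one]
    rw [h1]
    exact one_mem _
  have hSs' : IsSimpleGroup S := hSs
  exact ⟨S, hSn, hSs, hSna, hxS, fun r h1 h2 => (hall r h1 h2).1,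
    count hM (fun r h1 h2 => (hbig r h1 h2).subgroup B) (x := ⟨x, hxB⟩) (by rw [Subgroup.orderOf_mk, hx]) S hxS⟩

/-- reducedness from good primes -/
theorem red_good (hcyc : CycFixSolv.{0}) {M E n p : ℕ} (hp : p.Prime) {F : Type} [Field F] [CharP F p]
    {T : Type} [Group T] [Finite T] (hrep : Fth n F T) (hbig : ∀ r, r.Prime → r ∣ M → Big T r M E)
    {r₀ : ℕ} (hr₀ : r₀.Prime) (hr₀M : r₀ ∣ M) (hpiso : PIso p r₀ T) {B : Subgroup T} (hMB : M ∣ Nat.card B)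
    (hgood : ∀ t : ℕ, t.Prime → t ≠ p → ¬ t ∣ M → t ∣ Nat.card B → Good B n t) : Red ↥B (Pr (Fm1 M E)) := by
  have := Fact.mk hp
  obtain ⟨τ, hτ⟩ := hrep.sub B.subtype B.subtype_injective
  have hr₀B : r₀ ∣ Nat.card B := hr₀M.trans hMB
  refine red_of hcyc hτ (fun A hA hAp => pcore_of_piso (hpiso.sub B) hr₀B A hA hAp)
    (pr_fm1.2 ⟨hr₀, hr₀M⟩) hr₀ hr₀B
    (fun x hx => ((hbig r₀ hr₀ hr₀M).subgroup B).cyc x hx) fun t ht htp htn htB => ?_
  rw [Fintype.card_fin]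
  exact hgood t ht htp (fun h => htn (pr_fm1.2 ⟨ht, h⟩)) htB

variable {F : Type} [Field F] [Fintype F]

/-- **The name of the simple normal subgroup.** -/
theorem main1 (tb : OrderTable.{0}) (hcyc : CycFixSolv.{0}) (hcf : CF) [CharP F 2] {e M f : ℕ} (hf : 1 ≤ f)
    (hF : Fintype.card F = 2 ^ f) {L : List (Art.Sh × ℕ × ℕ)} {L' : List ℕ} (hb : bndR 52 e = true)
    (hs : sv2 e L = true) (hbS : bndS e = true) (hsS : svS2 e L' = true) (he : Cls e) (he7 : 7 ≤ e)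
    (hle : ∀ q, Even q → ncl e q ≤ 2701 → q ≤ 7) (hM : ncl e (2 ^ f) = M) (hn13 : 13 ≤ M)
    (hn2 : 2 ≤ f → 105 < M ∧ 52 * f + 1 < M)
    (hbig : ∀ r, r.Prime → r ∣ M → Big ↥(Lie.chevF4.group F) r M e)
    {B : Subgroup ↥(Lie.chevF4.group F)} {x : ↥(Lie.chevF4.group F)} (hx : orderOf x = M)
    (hxB : x ∈ B) (hsep : ¬ Nat.card B ∣ e * M) (hred : Red ↥B (Pr (Fm1 M e))) :
    ∃ (S : Subgroup B) (_ : S.Normal) (_ : IsSimpleGroup S), ¬ IsMulCommutative S ∧ (⟨x, hxB⟩ : B) ∈ S ∧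
      (∀ r, r.Prime → r ∣ M → Big S r M e) ∧ (∃ n k, S.index * n ∣ e ∧ Nat.card S = n * M * (1 + k * M)) ∧
      Nat.card S ∣ num (.f4 (2 ^ f)) ∧
      ((∃ g, IsNamed g S ∧ HasChar 2 g) ∨ (f = 1 ∧ ((∃ g X l a, IsNamed g S ∧ IsLie g X l a ∧
        Art.Real X l a (Nat.card S) ∧ (X, l, a) ∈ L) ∨ Nat.card S ∈ L'))) := by
  obtain ⟨S, hSn, hSs, hSna, hxS, hbS', n, k, hnk, hcard⟩ := core1r hcyc (by omega) hbig hx hxB hsep hred
  have hT := named_f4 (F := F) tb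
  rw [hF] at hT
  have hdS : Nat.card S ∣ num (.f4 (2 ^ f)) := (Subgroup.card_subgroup_dvd_card S).trans
    ((Subgroup.card_subgroup_dvd_card B).trans (by rw [← hT.eq]; exact Dvd.intro_left _ rfl))
  have hMS : M ∣ Nat.card S := by
    rw [hcard]
    exact (Dvd.intro_left _ rfl).mul_right _
  have hrep : Fth 52 F S := (fth_F4 (F := F)).sub (B.subtype.comp S.subtype)
    (B.subtype_injective.comp S.subtype_injective)
  refine ⟨S, hSn, hSs, hSna, hxS, hbS', ⟨n, k, hnk, hcard⟩, hdS, ?_⟩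
  have hq2 : 1 ≤ 2 ^ f := Nat.one_le_two_pow
  subst hM
  exact name1 tb hb hs hbS hsS he he7 hle hf hn13 hn2 hSna (hcf S) hrep hMS hdS fun r hr x hx =>
    (hbS' r hr.prime (dvd_ncl he hq2 hr)).cyc x hx

end Cfsg.Agent.H351.CovF4
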