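import Cfsg.Agent.H351.CovF4.One

/-!
# The name of the simple group (helper351, for S2499)

`exists_name1` : a simple group of degree 52 in characteristic 2, of order dividing `|F₄(q)|` and divisible by
`ncl e q`, `e = 8, 12`, is of Lie type in characteristic 2, or `q = 2` and it is in a short list.
-/

set_option autoImplicit false
set_option exponentiation.threshold 700

namespace Cfsg.Agent.H351.CovF4

open Cfsg Cfsg.Agent.OrdDiv Cfsg.Agent.H436 Cfsg.Agent.H902 Cfsg.Agent.H902.Names Cfsg.Agent.H915.GN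
  Cfsg.Agent.H290.ElReg Cfsg.Agent.H290.ElTab Cfsg.Agent.H290.ElCross Cfsg.Agent.H264.FKS Cfsg.Agent.H56.Exc
  Cfsg.Agent.H325.Loc Cfsg.Agent.H563.KG

theorem le_seven8 {q : ℕ} (hq : Even q) (h : ncl 8 q ≤ 2701) : q ≤ 7 := by
  by_contra hcon
  have h1 : ncl 8 q * Nat.gcd (cc 8) (Ph 8 q) = Ph 8 q := ncl_mul 8 q
  have h2 : Ph 8 q = q ^ 4 + 1 := rfl
  have h3 : Nat.gcd (cc 8) (Ph 8 q) = 1 := by
    have h4 : cc 8 = 2 := rfl
    rw [h4, h2]
    obtain ⟨k, rfl⟩ := hq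
    have h5 : ¬ 2 ∣ (k + k) ^ 4 + 1 := by
      have : (k + k) ^ 4 + 1 = 2 * (8 * k ^ 4) + 1 := by ring
      omega
    exact (Nat.Prime.coprime_iff_not_dvd Nat.prime_two).2 h5
  rw [h3, mul_one, h2] at h1
  have h4 : 8 ^ 4 ≤ q ^ 4 := Nat.pow_le_pow_left (by omega) 4
  omega

theorem mem_sm2 {f : ℕ} (hf : 1 ≤ f) (h : 2 ^ f ≤ 7) : (f = 1 ∨ f = 2) ∧ (f, 2 ^ f) ∈ [(1, 2), (2, 4)] := by
  have h3 : f ≤ 2 := by
    by_contra hcon
    have h5 : 2 ^ 3 ≤ 2 ^ f := Nat.pow_le_pow_right (by norm_num) (by omega)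
    omega
  have h6 : f = 1 ∨ f = 2 := by omega
  refine ⟨h6, ?_⟩
  rcases h6 with rfl | rfl <;> decide

/-- **Cross characteristic.** -/
theorem cross1 {e : ℕ} {L : List (Art.Sh × ℕ × ℕ)} (hb : bndR 52 e = true) (hs : sv2 e L = true) (he : Cls e)
    (hle : ∀ q, Even q → ncl e q ≤ 2701 → q ≤ 7) {X : Art.Sh} {l a N f : ℕ}
    (hR : Art.Real X l a N) (hlb : lb X (l ^ a) ≤ 52) (hf : 1 ≤ f) (hpl : 2 ≠ l)
    (hcls : ncl e (2 ^ f) ∣ N) (hd : N ∣ OL .F4 (2 ^ f)) : f = 1 ∧ (X, l, a) ∈ L := by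
  obtain ⟨hl, ha, hokX, heq⟩ := hR
  have hq : 2 ≤ 2 ^ f := Nat.le_self_pow (by omega) 2
  have hreg := mem_reg (n := 52) (by norm_num) hl ha hokX hlb
  have hs' : smooth (NA X l a) = true :=
    List.all_eq_true.1 smooth_reg (X, (l, a)) (mem_reg le_rfl hl ha hokX (hlb.trans (by norm_num)))
  have hsS : smooth (NS X l a) = true := by
    have h1 : NS X l a ∣ NA X l a := Dvd.intro_left _ rfl
    have h2 : NA X l a ∣ prs.prod ^ 100 := Nat.dvd_of_mod_eq_zero (by simpa [smooth] using hs')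
    simpa [smooth] using Nat.mod_eq_zero_of_dvd (h1.trans h2)
  have hM : OL X (l ^ a) = Art.dd X (l ^ a) * N := by unfold OL; rw [numL_eq]; exact heq.symm
  have hNM : N ∣ OL X (l ^ a) := Dvd.intro_left _ hM.symm
  have hNS : ∀ r, r.Prime → r ∣ N → r ∣ NS X l a := by
    intro r hr h
    unfold NS
    have h1 : r ∣ (l ^ a) ^ Art.NN X * numL X (l ^ a) := h.trans hNM
    rcases hr.dvd_mul.1 h1 with h2 | h2
    · exact (hr.dvd_of_dvd_pow (hr.dvd_of_dvd_pow h2)).mul_right _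
    · exact h2.mul_left _
  have hb' := List.all_eq_true.1 hb (X, (l, a)) hreg
  simp only [Bool.and_eq_true, Nat.ble_eq, Nat.blt_eq] at hb'
  have hM0 : OL X (l ^ a) ≠ 0 := by
    intro h0
    have h3 : l ^ a ≠ 0 := pow_ne_zero _ hl.ne_zero
    have h4 : NS X l a ≠ 0 := by
      intro h5
      have h6 : NS X l a ∣ prs.prod ^ 100 := Nat.dvd_of_mod_eq_zero (by simpa [smooth] using hsS)
      rw [h5] at h6
      have h7 := Nat.eq_zero_of_zero_dvd h6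
      have h8 : prs.prod ≠ 0 := by decide +kernel
      exact pow_ne_zero 100 h8 h7
    apply h4
    unfold OL at h0
    rcases Nat.mul_eq_zero.1 h0 with h5 | h5
    · exact absurd h5 (pow_ne_zero _ h3)
    · unfold NS
      rw [h5, mul_zero]
  have h1 : ncl e (2 ^ f) ∣ De (pd (NS X l a)) (OL X (l ^ a)) e := by
    refine dvd_De hM0 hb'.2 (hcls.trans hNM) fun r hr hrd => ?_
    have hprim := prim_of_dvd he (by omega) hr hrd
    exact ⟨mem_pd hsS hr (hNS r hr (hrd.trans hcls)), mod_of_prim hq (by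
      have := he.ge
      omega) hprim⟩
  have h2 : ncl e (2 ^ f) ≤ 2701 := by
    have h3 : De (pd (NS X l a)) (OL X (l ^ a)) e ≠ 0 := by
      unfold De
      intro h4
      rw [List.prod_eq_zero_iff, List.mem_map] at h4
      obtain ⟨r, -, h5⟩ := h4
      exact hM0 (Nat.eq_zero_of_gcd_eq_zero_left h5)
    exact (Nat.le_of_dvd (Nat.pos_of_ne_zero h3) h1).trans hb'.1
  obtain ⟨-, h3⟩ := mem_sm2 hf (hle _ ((even_two).pow_of_ne_zero (by omega)) h2)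
  have h4 := List.all_eq_true.1 (List.all_eq_true.1 hs (X, (l, a)) hreg) _ h3
  rw [tq_of (cls := [e]) (fun e' he' => by
    rw [List.mem_singleton] at he'
    rw [he']
    exact hcls.trans hNM) hM hd] at h4
  simp only [Bool.not_true, Bool.or_false, Bool.or_eq_true, beq_iff_eq, Bool.and_eq_true, List.contains_iff_mem] at h4
  rcases h4 with h4 | h4
  · exact absurd h4.symm hpl
  · exact h4

/-- **Sporadic groups.** -/
theorem spor1 {e : ℕ} {L : List ℕ} (hb : bndS e = true) (hs : svS2 e L = true) (he₀ : Cls e)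
    (hle : ∀ q, Even q → ncl e q ≤ 2701 → q ≤ 7) {x : Cfsg.Agent.OrdDiv.Grp × ℕ} (hx : x ∈ Cfsg.Agent.OrdDiv.spor)
    {f : ℕ} (hf : 1 ≤ f) (hcls : ncl e (2 ^ f) ∣ x.2) (hd : x.2 ∣ OL .F4 (2 ^ f)) : f = 1 ∧ x.2 ∈ L := by
  have hq : 2 ≤ 2 ^ f := Nat.le_self_pow (by omega) 2
  have hs' : smooth x.2 = true := List.all_eq_true.1 smooth_spor x hx
  have hb' := List.all_eq_true.1 hb x hx
  simp only [Bool.and_eq_true, Nat.ble_eq, Nat.blt_eq] at hb'
  have hM0 : x.2 ≠ 0 := by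
    have : ∀ x ∈ Cfsg.Agent.OrdDiv.spor, x.2 ≠ 0 := by decide +kernel
    exact this x hx
  have h1 : ncl e (2 ^ f) ∣ De (pd x.2) x.2 e := by
    refine dvd_De hM0 hb'.2 hcls fun r hr hrd => ?_
    have hprim := prim_of_dvd he₀ (by omega) hr hrd
    exact ⟨mem_pd hs' hr (hrd.trans hcls), mod_of_prim hq (by
      have := he₀.ge
      omega) hprim⟩
  have h2 : ncl e (2 ^ f) ≤ 2701 := by
    have h3 : De (pd x.2) x.2 e ≠ 0 := by
      unfold De
      intro h4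
      rw [List.prod_eq_zero_iff, List.mem_map] at h4
      obtain ⟨r, -, h5⟩ := h4
      exact hM0 (Nat.eq_zero_of_gcd_eq_zero_left h5)
    exact (Nat.le_of_dvd (Nat.pos_of_ne_zero h3) h1).trans hb'.1
  obtain ⟨-, h3⟩ := mem_sm2 hf (hle _ ((even_two).pow_of_ne_zero (by omega)) h2)
  have h4 := List.all_eq_true.1 (List.all_eq_true.1 hs x hx) _ h3
  rw [tq_of (cls := [e]) (fun e' he' => by
    rw [List.mem_singleton] at he'
    rw [he']
    exact hcls) (one_mul _).symm hd] at h4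
  simp only [Bool.not_true, Bool.false_or, Bool.and_eq_true, beq_iff_eq, List.contains_iff_mem] at h4
  exact h4

/-! ### alternating groups -/

/-- the order of `F₄(q)` is small -/
theorem OL_lt {f : ℕ} (hf : 1 ≤ f) : OL .F4 (2 ^ f) < 2 ^ (52 * f) := by
  have h1 : OL .F4 (2 ^ f) = num (.f4 (2 ^ f)) := rfl
  have h2 : num (.f4 (2 ^ f)) = (2 ^ f) ^ 24 * (((2 ^ f) ^ 2 - 1) * ((2 ^ f) ^ 6 - 1) * ((2 ^ f) ^ 8 - 1) * ((2 ^ f) ^ 12 - 1)) := rfl
  have hq : 2 ≤ 2 ^ f := Nat.le_self_pow (by omega) 2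
  have hs : ∀ d, 1 ≤ d → 0 < (2 ^ f) ^ d - 1 ∧ (2 ^ f) ^ d - 1 < (2 ^ f) ^ d := by
    intro d hd
    have h3 : 2 ^ f ≤ (2 ^ f) ^ d := Nat.le_self_pow (by omega) _
    omega
  rw [h1, h2]
  have e : 2 ^ (52 * f) = (2 ^ f) ^ 24 * ((2 ^ f) ^ 2 * (2 ^ f) ^ 6 * (2 ^ f) ^ 8 * (2 ^ f) ^ 12) := by
    rw [← pow_add, ← pow_add, ← pow_add, ← pow_add, ← pow_mul]
    congr 1
    ring
  rw [e]
  refine Nat.mul_lt_mul_of_pos_left ?_ (by positivity)
  exact Nat.mul_lt_mul'' (Nat.mul_lt_mul'' (Nat.mul_lt_mul'' (hs 2 (by norm_num)).2 (hs 6 (by norm_num)).2)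
    (hs 8 (by norm_num)).2) (hs 12 (by norm_num)).2

theorem two_pow_le_factorial (m : ℕ) : 2 ^ (m - 1) ≤ m.factorial := by
  cases m with
  | zero => simp
  | succ m =>
    rw [Nat.add_sub_cancel]
    induction m with
    | zero => simp
    | succ m ih =>
      rw [pow_succ, Nat.factorial_succ (m + 1), mul_comm]
      exact Nat.mul_le_mul (by omega) ih

theorem no_alt1 {m N f : ℕ} (hf : 1 ≤ f) (hm : 13 ≤ m) (hm2 : 2 ≤ f → 105 < m ∧ 52 * f + 1 < m) (hN : 2 * N = m.factorial)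
    (hd : N ∣ OL .F4 (2 ^ f)) : False := by
  rcases Nat.eq_or_lt_of_le hf with rfl | h2
  · have h1 : 11 ∣ m.factorial := Nat.dvd_factorial (by norm_num) (by omega)
    rw [← hN] at h1
    have h2 : 11 ∣ N := (Nat.Prime.dvd_mul (by norm_num)).1 h1 |>.resolve_left (by norm_num)
    have h3 := h2.trans hd
    revert h3
    decide +kernel
  · obtain ⟨-, h3⟩ := hm2 h2
    have h4 := Nat.le_of_dvd (by
      rcases Nat.eq_zero_or_pos (OL .F4 (2 ^ f)) with h | h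
      · exfalso
        have h5 : OL .F4 (2 ^ f) = num (.f4 (2 ^ f)) := rfl
        have h6 : num (.f4 (2 ^ f)) = (2 ^ f) ^ 24 * (((2 ^ f) ^ 2 - 1) * ((2 ^ f) ^ 6 - 1) * ((2 ^ f) ^ 8 - 1) * ((2 ^ f) ^ 12 - 1)) := rfl
        have hs : ∀ d, 1 ≤ d → 0 < (2 ^ f) ^ d - 1 := by
          intro d hd
          have hq : 2 ≤ 2 ^ f := Nat.le_self_pow (by omega) 2
          have h3 : 2 ^ f ≤ (2 ^ f) ^ d := Nat.le_self_pow (by omega) _
          omega
        have h7 := hs 2 (by norm_num)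
        have h8 := hs 6 (by norm_num)
        have h9 := hs 8 (by norm_num)
        have h10 := hs 12 (by norm_num)
        have h11 : 0 < OL .F4 (2 ^ f) := by
          rw [h5, h6]
          positivity
        omega
      · exact h) hd
    have h5 := OL_lt hf
    have h6 := two_pow_le_factorial m
    have h7 : 2 ^ (52 * f + 1) ≤ 2 ^ (m - 1) := Nat.pow_le_pow_right (by norm_num) (by omega)
    have h8 : 2 ^ (52 * f + 1) = 2 * 2 ^ (52 * f) := by ring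
    omega

/-! ### the name -/

theorem name1 (tb : OrderTable.{0}) {e : ℕ} {L : List (Art.Sh × ℕ × ℕ)} {L' : List ℕ} (hb : bndR 52 e = true)
    (hs : sv2 e L = true) (hbS : bndS e = true) (hsS : svS2 e L' = true) (he : Cls e) (he7 : 7 ≤ e)
    (hle : ∀ q, Even q → ncl e q ≤ 2701 → q ≤ 7) {f : ℕ} (hf : 1 ≤ f) (hn13 : 13 ≤ ncl e (2 ^ f))
    (hn2 : 2 ≤ f → 105 < ncl e (2 ^ f) ∧ 52 * f + 1 < ncl e (2 ^ f)) {F : Type} [Field F] [CharP F 2] {S : Type}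
    [Group S] [Finite S] [IsSimpleGroup S] (hna : ¬ IsMulCommutative S) (hK : IsKnownSimple' S) (hrep : Fth 52 F S)
    (hcls : ncl e (2 ^ f) ∣ Nat.card S) (hd : Nat.card S ∣ OL .F4 (2 ^ f))
    (hcyc : ∀ r, Prim (2 ^ f) e r → ∀ x : S, orderOf x = r → IsCyclic ↥(Subgroup.centralizer {x})) :
    (∃ g, IsNamed g S ∧ HasChar 2 g) ∨ (f = 1 ∧ ((∃ g X l a, IsNamed g S ∧ IsLie g X l a ∧
      Art.Real X l a (Nat.card S) ∧ (X, l, a) ∈ L) ∨ Nat.card S ∈ L')) := by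
  have hna' : ¬ ∀ a b : S, a * b = b * a := fun h => hna ⟨⟨h⟩⟩
  have hq : 2 ≤ 2 ^ f := Nat.le_self_pow (by omega) 2
  obtain ⟨g, hgS⟩ := exists_named tb hK hna'
  rcases Cfsg.Agent.H192.Singer.cases_name hgS.cond with ⟨m, rfl⟩ | hsp | ⟨l, hl, hch⟩
  · exfalso
    obtain ⟨Φ⟩ : Nonempty (S ≃* alternatingGroup (Fin m)) := hgS.real
    have hm : 5 ≤ m := hgS.cond
    have hnil : ∀ r, Prim (2 ^ f) e r → ∀ x : S, orderOf x = r →
        Group.IsNilpotent (Subgroup.centralizer ({x} : Set S)) := by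
      intro r hr x hx
      have := hcyc r hr x hx
      let _ := IsCyclic.commGroup (α := ↥(Subgroup.centralizer ({x} : Set S)))
      infer_instance
    have h1 := window hq he he7 (by omega) Φ hcls hnil
    have : Nontrivial (Fin m) := Fin.nontrivial_iff_two_le.2 (by omega)
    have h4 : 2 * Nat.card S = m.factorial := by
      rw [Nat.card_congr Φ.toEquiv, Nat.card_eq_fintype_card, two_mul_card_alternatingGroup, Fintype.card_perm,
        Fintype.card_fin]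
    exact no_alt1 hf (by omega) (fun h => by have := hn2 h; omega) h4 hd
  · right
    have h1 := Cfsg.Agent.H192.Singer.spor_mem hsp
    have h2 : Nat.card S = ordN g := hgS.ord
    have h3 := spor1 hbS hsS he hle h1 hf (by rw [← h2]; exact hcls) (by rw [← h2]; exact hd)
    exact ⟨h3.1, Or.inr (by rw [h2]; exact h3.2)⟩
  · by_cases hpl : 2 = l
    · subst hpl
      exact Or.inl ⟨g, hgS, hch⟩
    · right
      obtain ⟨X, f₁, h1, h2, -⟩ := exists_lie hl hgS hch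
      have hlF : (l : F) ≠ 0 := by
        intro h
        exact hpl ((Nat.prime_dvd_prime_iff_eq Nat.prime_two hl).1 ((CharP.cast_eq_zero_iff F 2 l).1 h))
      have h3 := lb_le hna' (by norm_num) hrep h1 hgS.real h2 hlF
      have h4 := cross1 hb hs he hle h2 h3 hf hpl hcls hd
      exact ⟨h4.1, Or.inl ⟨g, X, l, f₁, hgS, h1, h2, h4.2⟩⟩

theorem ncl12_ge {f : ℕ} (hf : 1 ≤ f) : 13 ≤ ncl 12 (2 ^ f) ∧
    (2 ≤ f → 105 < ncl 12 (2 ^ f) ∧ 52 * f + 1 < ncl 12 (2 ^ f)) := by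
  have h1 : ncl 12 (2 ^ f) = (2 ^ f) ^ 4 - (2 ^ f) ^ 2 + 1 := by
    rw [ncl12_eq]
    rfl
  have h2 : ∀ f, 1 ≤ f → 12 * f ≤ 3 * 2 ^ (2 * f) := by
    intro f hf
    induction f, hf using Nat.le_induction with
    | base => norm_num
    | succ k hk ih =>
      have : 2 ^ (2 * (k + 1)) = 4 * 2 ^ (2 * k) := by ring
      omega
  obtain ⟨Q, hQ⟩ : ∃ Q, Q = 2 ^ (2 * f) := ⟨_, rfl⟩
  have e2 : (2 ^ f) ^ 2 = Q := by rw [hQ, ← pow_mul, mul_comm]
  have e4 : (2 ^ f) ^ 4 = Q * Q := by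
    rw [← e2]; ring
  have h3 := h2 f hf
  rw [← hQ] at h3
  rw [h1, e4, e2]
  have hQ4 : 4 ≤ Q := by
    rw [hQ]
    exact (show (4 : ℕ) = 2 ^ 2 by norm_num).le.trans (Nat.pow_le_pow_right (by norm_num) (by omega))
  obtain ⟨R, rfl⟩ : ∃ R, Q = R + 4 := ⟨Q - 4, by omega⟩
  have e5 : (R + 4) * (R + 4) - (R + 4) = R * R + 7 * R + 12 := by
    have : (R + 4) * (R + 4) = R * R + 7 * R + 12 + (R + 4) := by ring
    omega
  rw [e5]
  refine ⟨by omega, fun hf2 => ?_⟩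
  have hQ16 : 12 ≤ R := by
    have : 2 ^ 4 ≤ R + 4 := by
      rw [hQ]
      exact Nat.pow_le_pow_right (by norm_num) (by omega)
    omega
  have h6 : 12 * R ≤ R * R := Nat.mul_le_mul_right _ hQ16
  constructor
  · omega
  · omega

theorem ncl8_eq2 {f : ℕ} (hf : 1 ≤ f) : ncl 8 (2 ^ f) = (2 ^ f) ^ 4 + 1 := by
  have h1 : ncl 8 (2 ^ f) * Nat.gcd (cc 8) (Ph 8 (2 ^ f)) = Ph 8 (2 ^ f) := ncl_mul 8 _
  have h2 : Ph 8 (2 ^ f) = (2 ^ f) ^ 4 + 1 := rfl
  have h3 : Nat.gcd (cc 8) (Ph 8 (2 ^ f)) = 1 := by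
    have h4 : cc 8 = 2 := rfl
    rw [h4, h2]
    refine (Nat.Prime.coprime_iff_not_dvd Nat.prime_two).2 fun h => ?_
    have h5 : 2 ∣ (2 ^ f) ^ 4 := (dvd_pow_self 2 (by omega)).trans (dvd_pow_self _ (by norm_num))
    exact absurd ((Nat.dvd_add_right h5).1 h) (by norm_num)
  rw [h3, mul_one, h2] at h1
  exact h1

theorem ncl8_ge {f : ℕ} (hf : 1 ≤ f) : 13 ≤ ncl 8 (2 ^ f) ∧
    (2 ≤ f → 105 < ncl 8 (2 ^ f) ∧ 52 * f + 1 < ncl 8 (2 ^ f)) := by
  have h1 := ncl12_ge hf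
  have h2 : ncl 12 (2 ^ f) ≤ ncl 8 (2 ^ f) := by
    rw [ncl8_eq2 hf, ncl12_eq]
    show (2 ^ f) ^ 4 - (2 ^ f) ^ 2 + 1 ≤ _
    omega
  exact ⟨h1.1.trans h2, fun h => ⟨(h1.2 h).1.trans_le h2, (h1.2 h).2.trans_le h2⟩⟩

end Cfsg.Agent.H351.CovF4
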