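import Cfsg.Agent.H563.KG.KF4
import Cfsg.Agent.H351.CovF4.Count

/-!
# Subgroups of `F₄(q)`, `q` even, containing a torus of order `Φ₈(q)` or `Φ₁₂(q)` (helper351, for S2499)

* `core1` : the simple normal subgroup, one class of tori;
* `exists_name1` : its name.
-/

set_option autoImplicit false
set_option exponentiation.threshold 700

namespace Cfsg.Agent.H351.CovF4

open Cfsg Cfsg.Agent.OrdDiv Cfsg.Agent.H436 Cfsg.Agent.H902 Cfsg.Agent.H902.Names Cfsg.Agent.H915.GN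
  Cfsg.Agent.H290.ElReg Cfsg.Agent.H290.ElTab Cfsg.Agent.H290.ElCross Cfsg.Agent.H264.FKS Cfsg.Agent.H56.Exc
  Cfsg.Agent.H325.Loc Cfsg.Agent.H563.KG

/-- the family of the prime divisors of `M` -/
def Fm1 (M E : ℕ) (r m e : ℕ) : Prop := r.Prime ∧ r ∣ M ∧ m = M ∧ e = E

theorem pr_fm1 {M E r : ℕ} : Pr (Fm1 M E) r ↔ r.Prime ∧ r ∣ M := by
  constructor
  · rintro ⟨m, e, h1, h2, -, -⟩
    exact ⟨h1, h2⟩
  · rintro ⟨h1, h2⟩
    exact ⟨M, E, h1, h2, rfl, rfl⟩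

/-- **The simple normal subgroup.** -/
theorem core1 (hcyc : CycFixSolv.{0}) {M E n p : ℕ} (hM : 1 < M) (hp : p.Prime) {F : Type} [Field F] [CharP F p]
    {T : Type} [Group T] [Finite T] (hrep : Fth n F T) (hbig : ∀ r, r.Prime → r ∣ M → Big T r M E)
    {r₀ : ℕ} (hr₀ : r₀.Prime) (hr₀M : r₀ ∣ M) (hpiso : PIso p r₀ T) {B : Subgroup T} {x : T} (hx : orderOf x = M)
    (hxB : x ∈ B) (hsep : ¬ Nat.card B ∣ E * M)
    (hgood : ∀ t : ℕ, t.Prime → t ≠ p → ¬ t ∣ M → t ∣ Nat.card B → Good B n t) :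
    ∃ (S : Subgroup B) (_ : S.Normal) (_ : IsSimpleGroup S), ¬ IsMulCommutative S ∧
      (∀ r, r.Prime → r ∣ M → Big S r M E) ∧ ∃ n k, S.index * n ∣ E ∧ Nat.card S = n * M * (1 + k * M) := by
  have := Fact.mk hp
  have hMB : M ∣ Nat.card B := by
    have h1 := orderOf_dvd_natCard (⟨x, hxB⟩ : B)
    rwa [Subgroup.orderOf_mk, hx] at h1
  have hrf : RFam ↥B (Fm1 M E) :=
    { big := by
        rintro r m e ⟨h1, h2, rfl, rfl⟩
        exact (hbig r h1 h2).subgroup B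
      dvd := by
        rintro r m e ⟨h1, h2, rfl, rfl⟩
        exact h2.trans hMB
      sep := by
        rintro r m e ⟨h1, h2, rfl, rfl⟩
        exact hsep }
  obtain ⟨τ, hτ⟩ := hrep.sub B.subtype B.subtype_injective
  have hr₀B : r₀ ∣ Nat.card B := hr₀M.trans hMB
  have hred : Red ↥B (Pr (Fm1 M E)) := by
    refine red_of hcyc hτ (fun A hA hAp => pcore_of_piso (hpiso.sub B) hr₀B A hA hAp)
      (pr_fm1.2 ⟨hr₀, hr₀M⟩) hr₀ hr₀B
      (fun x hx => ((hbig r₀ hr₀ hr₀M).subgroup B).cyc x hx) fun t ht htp htn htB => ?_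
    rw [Fintype.card_fin]
    exact hgood t ht htp (fun h => htn (pr_fm1.2 ⟨ht, h⟩)) htB
  obtain ⟨S, hSn, hSs, hSna, hS⟩ :=
    hrf.exists_full hcyc hred (r₁ := r₀) (m₁ := M) (e₁ := E) ⟨hr₀, hr₀M, rfl, rfl⟩
  have hall : ∀ r, r.Prime → r ∣ M → Big S r M E ∧ r ∣ Nat.card S ∧ ¬ r ∣ S.index ∧ S.index ∣ E * M :=
    fun r h1 h2 => hS r M E ⟨h1, h2, rfl, rfl⟩
  have hcop : S.index.Coprime M := by
    by_contra hcon
    obtain ⟨r, hr, h1, h2⟩ := Nat.Prime.not_coprime_iff_dvd.1 hcon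
    exact (hall r hr h2).2.2.1 h1
  have hxS : (⟨x, hxB⟩ : B) ∈ S := by
    refine mem_of_coprime (S.pow_index_mem _) (r := M) ?_ hcop
    have h1 : (⟨x, hxB⟩ : B) ^ M = 1 := by
      apply Subtype.ext
      show x ^ M = 1
      rw [← hx, pow_orderOf_eq_one]
    rw [h1]
    exact one_mem _
  have hSs' : IsSimpleGroup S := hSs
  exact ⟨S, hSn, hSs, hSna, fun r h1 h2 => (hall r h1 h2).1,
    count hM (fun r h1 h2 => (hbig r h1 h2).subgroup B) (x := ⟨x, hxB⟩) (by rw [Subgroup.orderOf_mk, hx]) S hxS⟩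

/-! ### tables -/

/-- the test, `p = 2`, `q = 2, 4` -/
def sv2 (e : ℕ) (L : List (Art.Sh × ℕ × ℕ)) : Bool := (reg 52).all fun x => [(1, 2), (2, 4)].all fun y =>
  x.2.1 == 2 || !(tq .F4 [e] (OL x.1 (x.2.1 ^ x.2.2)) (Art.dd x.1 (x.2.1 ^ x.2.2)) y.2) || (y.1 == 1 && L.contains x)

def svS2 (e : ℕ) (L : List ℕ) : Bool := Cfsg.Agent.OrdDiv.spor.all fun x => [(1, 2), (2, 4)].all fun y =>
  !(tq .F4 [e] x.2 1 y.2) || (y.1 == 1 && L.contains x.2)

/-- the survivors of class 12 -/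
def L12 : List (Art.Sh × ℕ × ℕ) := [(.L 2, 3, 3), (.L 2, 5, 2), (.L 2, 13, 1), (.L 3, 3, 1), (.L 4, 3, 1), (.G2, 3, 1)]

/-- the survivors of class 8 -/
def L8 : List (Art.Sh × ℕ × ℕ) := [(.L 2, 17, 1)]

theorem bndR_52_8 : bndR 52 8 = true := by decide +kernel
theorem bndS_8 : bndS 8 = true := by decide +kernel
theorem sv2_12 : sv2 12 L12 = true := by decide +kernel
theorem sv2_8 : sv2 8 L8 = true := by decide +kernel
theorem svS2_12 : svS2 12 [17971200] = true := by decide +kernel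
theorem svS2_8 : svS2 8 [] = true := by decide +kernel

end Cfsg.Agent.H351.CovF4
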