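import Cfsg.Agent.H563.KG.GoodE

/-!
# Overgroups of the torus of order 13 in `F₄(2)`: reducedness (helper351, for S2499)

`red_two` : a subgroup of `F₄(2)` containing elements of orders 13 and 28 has no nontrivial normal subgroup of order
prime to 13.
-/

set_option autoImplicit false

namespace Cfsg.Agent.H351.CovF4

open Subgroup Cfsg.Agent.H56.Exc Cfsg.Agent.H325.Loc Cfsg.Agent.H563.KG

section Fix

variable {G : Type*} [Group G]

/-- the conjugation action on an invariant subgroup -/
@[reducible] def cAct {A K : Subgroup G} (h : ∀ b ∈ K, ∀ a ∈ A, b * a * b⁻¹ ∈ A) : MulAction K A where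
  smul b a := ⟨b * a * (b : G)⁻¹, h b b.2 a a.2⟩
  one_smul a := Subtype.ext (by show (1 : G) * a * (1 : G)⁻¹ = a; simp)
  mul_smul b c a := Subtype.ext (by show (b * c : G) * a * (b * c : G)⁻¹ = b * (c * a * (c : G)⁻¹) * (b : G)⁻¹; group)

/-- the fixed points of an element of prime order on an invariant subgroup -/
theorem card_fix_mod [Finite G] {A : Subgroup G} {x : G} {r : ℕ} (hr : r.Prime) (hx : orderOf x = r)
    (hinv : ∀ a ∈ A, x * a * x⁻¹ ∈ A) : Nat.card A ≡ Nat.card ↥(A ⊓ centralizer {x}) [MOD r] := by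
  have := Fact.mk hr
  have hpow : ∀ b ∈ zpowers x, ∀ a ∈ A, b * a * b⁻¹ ∈ A := by
    intro b hb a ha
    rw [← mem_powers_iff_mem_zpowers] at hb
    obtain ⟨n, rfl⟩ := hb
    show x ^ n * a * (x ^ n)⁻¹ ∈ A
    clear hx
    induction n with
    | zero => simpa using ha
    | succ n ih =>
      have h1 := hinv _ ih
      have h2 : x ^ (n + 1) * a * (x ^ (n + 1))⁻¹ = x * (x ^ n * a * (x ^ n)⁻¹) * x⁻¹ := by
        rw [pow_succ']
        group
      rwa [h2]
  let _ : MulAction (zpowers x) A := cAct hpow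
  have hP : IsPGroup r (zpowers x) := IsPGroup.of_card (n := 1) (by rw [Nat.card_zpowers, hx, pow_one])
  have h1 := hP.card_modEq_card_fixedPoints A
  have h2 : Nat.card (MulAction.fixedPoints (zpowers x) A) = Nat.card ↥(A ⊓ centralizer {x}) := by
    refine Nat.card_congr
      { toFun := fun a => ⟨(a : A), (a : A).2, ?_⟩
        invFun := fun a => ⟨⟨(a : G), a.2.1⟩, ?_⟩
        left_inv := fun a => rfl
        right_inv := fun a => rfl }
    · show _ ∈ centralizer ({x} : Set G)
      rw [mem_centralizer_singleton_iff]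
      have h3 := congrArg Subtype.val (a.2 ⟨x, mem_zpowers x⟩)
      have h4 : x * ((a : A) : G) * x⁻¹ = ((a : A) : G) := h3
      rw [mul_inv_eq_iff_eq_mul] at h4
      exact h4.symm
    · rintro ⟨b, hb⟩
      apply Subtype.ext
      show b * (a : G) * b⁻¹ = a
      have h3 : Commute x (a : G) := (mem_centralizer_singleton_iff.1 a.2.2).symm
      obtain ⟨n, rfl⟩ := hb
      exact mul_inv_eq_iff_eq_mul.2 (h3.zpow_left n)
  rwa [h2] at h1

end Fix

section Inv

variable {G : Type*} [Group G]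

/-- the elements centralising or inverting an abelian normal subgroup -/
def inv2 (A : Subgroup G) : Subgroup G where
  carrier := {h | (∀ a ∈ A, h * a * h⁻¹ = a) ∨ (∀ a ∈ A, h * a * h⁻¹ = a⁻¹)}
  one_mem' := Or.inl fun a _ => by simp
  mul_mem' := by
    rintro g h (hg | hg) (hh | hh)
    · left
      intro a ha
      have : g * h * a * (g * h)⁻¹ = g * (h * a * h⁻¹) * g⁻¹ := by group
      rw [this, hh a ha, hg a ha]
    · right
      intro a ha
      have : g * h * a * (g * h)⁻¹ = g * (h * a * h⁻¹) * g⁻¹ := by group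
      rw [this, hh a ha, hg _ (inv_mem ha)]
    · right
      intro a ha
      have : g * h * a * (g * h)⁻¹ = g * (h * a * h⁻¹) * g⁻¹ := by group
      rw [this, hh a ha, hg a ha]
    · left
      intro a ha
      have : g * h * a * (g * h)⁻¹ = g * (h * a * h⁻¹) * g⁻¹ := by group
      rw [this, hh a ha, hg _ (inv_mem ha), inv_inv]
  inv_mem' := by
    rintro g (hg | hg)
    · left
      intro a ha
      have := hg a ha
      calc g⁻¹ * a * g⁻¹⁻¹ = g⁻¹ * (g * a * g⁻¹) * g := by rw [this, inv_inv]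
        _ = a := by group
    · right
      intro a ha
      have := hg _ (inv_mem ha)
      rw [inv_inv] at this
      calc g⁻¹ * a * g⁻¹⁻¹ = g⁻¹ * (g * a⁻¹ * g⁻¹) * g := by rw [this, inv_inv]
        _ = a⁻¹ := by group

theorem mem_inv2 {A : Subgroup G} {h : G} :
    h ∈ inv2 A ↔ (∀ a ∈ A, h * a * h⁻¹ = a) ∨ (∀ a ∈ A, h * a * h⁻¹ = a⁻¹) := Iff.rfl

instance inv2_normal (A : Subgroup G) [hA : A.Normal] : (inv2 A).Normal := by
  constructor
  intro h hh g
  have key : ∀ a, g * h * g⁻¹ * a * (g * h * g⁻¹)⁻¹ = g * (h * (g⁻¹ * a * g) * h⁻¹) * g⁻¹ := fun a => by group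
  have hm : ∀ a ∈ A, g⁻¹ * a * g ∈ A := fun a ha => by
    have := hA.conj_mem a ha g⁻¹
    rwa [inv_inv] at this
  rcases hh with hh | hh
  · left
    intro a ha
    rw [key, hh _ (hm a ha)]
    group
  · right
    intro a ha
    rw [key, hh _ (hm a ha)]
    group

end Inv

/-- **Reducedness.** -/
theorem red_two (hE : CycFixSolv.{0}) {G : Type} [Group G] [Finite G] (hbig : Big G 13 13 12) (hpiso : PIso 2 13 G)
    (hcard : Nat.card G ∣ 2 ^ 24 * 3 ^ 6 * 5 ^ 2 * 7 ^ 2 * 13 * 17) (h13 : 13 ∣ Nat.card G) {y : G}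
    (hy : orderOf y = 28) {Pr : ℕ → Prop} (hPr : Pr 13) : Red G Pr := by
  intro N hN hNr
  by_contra hne
  have f13 : Fact (Nat.Prime 13) := ⟨by norm_num⟩
  have f7 : Fact (Nat.Prime 7) := ⟨by norm_num⟩
  have f2 : Fact (Nat.Prime 2) := ⟨Nat.prime_two⟩
  have hN13 : ¬ 13 ∣ Nat.card N := hNr 13 hPr
  obtain ⟨x, hx⟩ := exists_prime_orderOf_dvd_card' 13 h13
  -- elements commuting with elements of order 13
  have hfree : ∀ x : G, orderOf x = 13 → ∀ H : Subgroup G, ¬ 13 ∣ Nat.card H → ∀ a ∈ H, x * a = a * x → a = 1 := by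
    intro x hx H hH a ha hc
    have h1 : a ∈ centralizer ({x} : Set G) := mem_centralizer_singleton_iff.2 hc.symm
    have h2 : orderOf a ∣ 13 := by
      have h4 : orderOf (⟨a, h1⟩ : ↥(centralizer ({x} : Set G))) = orderOf a := Subgroup.orderOf_mk a h1
      rw [← h4]
      exact (_root_.orderOf_dvd_natCard _).trans (hbig.card x hx)
    rcases (Nat.dvd_prime f13.out).1 h2 with h3 | h3
    · exact orderOf_eq_one_iff.1 h3
    · exfalso
      apply hH
      rw [← h3]
      have h4 : orderOf (⟨a, ha⟩ : H) = orderOf a := Subgroup.orderOf_mk a ha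
      rw [← h4]
      exact _root_.orderOf_dvd_natCard _
  -- `N` is solvable
  have hsolv : Group.IsSolvable N := by
    apply hE N (MulAut.conjNormal (H := N) x) 13 f13.out _ hN13
    · have := hbig.cyc x hx
      refine ⟨(centralizer {x}).comap N.subtype, ?_, fun a ha => ?_⟩
      · let g : ↥((centralizer {x}).comap N.subtype) →* ↥(centralizer {x}) :=
          (N.subtype.comp ((centralizer {x}).comap N.subtype).subtype).codRestrict _ fun y => y.2
        exact isCyclic_of_injective g fun a b hab => by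
          have h3 : ((a : N) : G) = ((b : N) : G) :=
            congrArg (fun z : ↥(centralizer {x}) => (z : G)) hab
          exact Subtype.ext (Subtype.ext h3)
      · rw [Subgroup.mem_comap, mem_centralizer_singleton_iff]
        have h2 := congrArg Subtype.val ha
        rw [MulAut.conjNormal_apply, mul_inv_eq_iff_eq_mul] at h2
        exact h2.symm
    · rw [← map_pow, ← hx, pow_orderOf_eq_one, map_one]
  obtain ⟨t, ht, A, hAn, hAN, hA0, hAc, hAt⟩ := exists_elem' hN hsolv hne
  have hPt : IsPGroup t A := fun a => ⟨1, by rw [pow_one]; exact Subtype.ext (hAt a a.2)⟩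
  have := Fact.mk ht
  obtain ⟨k, hk⟩ := IsPGroup.iff_card.1 hPt
  have hk0 : k ≠ 0 := by
    rintro rfl
    rw [pow_zero, Subgroup.card_eq_one] at hk
    exact hA0 hk
  have hkG : t ^ k ∣ 2 ^ 24 * 3 ^ 6 * 5 ^ 2 * 7 ^ 2 * 13 * 17 := by
    rw [← hk]
    exact (card_subgroup_dvd_card A).trans hcard
  have hA13 : ¬ 13 ∣ Nat.card A := fun h => hN13 (h.trans (card_dvd_of_le hAN))
  have hmod : ∀ S : Subgroup G, ¬ 13 ∣ Nat.card S → (∀ a ∈ S, x * a * x⁻¹ ∈ S) → Nat.card S ≡ 1 [MOD 13] := by
    intro S hS hinv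
    have h1 := card_fix_mod f13.out hx hinv
    have h2 : S ⊓ centralizer {x} = ⊥ := by
      rw [eq_bot_iff]
      rintro a ⟨ha, hc⟩
      exact Subgroup.mem_bot.2 (hfree x hx S hS a ha (mem_centralizer_singleton_iff.1 hc).symm)
    rwa [h2, Subgroup.card_bot] at h1
  have hAm := hmod A hA13 fun a ha => hAn.conj_mem a ha x
  rw [hk] at hAm
  have h3k : t = 3 ∧ (k = 3 ∨ k = 6) := by
    have h1 : t ∣ 2 ^ 24 * 3 ^ 6 * 5 ^ 2 * 7 ^ 2 * 13 * 17 := (dvd_pow_self t hk0).trans hkG
    have h2 : t = 2 ∨ t = 3 ∨ t = 5 ∨ t = 7 ∨ t = 13 ∨ t = 17 := by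
      rcases ht.dvd_mul.1 h1 with h | h
      · rcases ht.dvd_mul.1 h with h | h
        · rcases ht.dvd_mul.1 h with h | h
          · rcases ht.dvd_mul.1 h with h | h
            · rcases ht.dvd_mul.1 h with h | h
              · exact Or.inl ((Nat.prime_dvd_prime_iff_eq ht (by norm_num)).1 (ht.dvd_of_dvd_pow h))
              · exact Or.inr (Or.inl ((Nat.prime_dvd_prime_iff_eq ht (by norm_num)).1 (ht.dvd_of_dvd_pow h)))
            · exact Or.inr (Or.inr (Or.inl ((Nat.prime_dvd_prime_iff_eq ht (by norm_num)).1 (ht.dvd_of_dvd_pow h))))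
          · exact Or.inr (Or.inr (Or.inr (Or.inl ((Nat.prime_dvd_prime_iff_eq ht (by norm_num)).1 (ht.dvd_of_dvd_pow h)))))
        · exact Or.inr (Or.inr (Or.inr (Or.inr (Or.inl ((Nat.prime_dvd_prime_iff_eq ht (by norm_num)).1 h)))))
      · exact Or.inr (Or.inr (Or.inr (Or.inr (Or.inr ((Nat.prime_dvd_prime_iff_eq ht (by norm_num)).1 h)))))
    rcases h2 with rfl | rfl | rfl | rfl | rfl | rfl
    · exact absurd (pcore_of_piso hpiso h13 A hAn hPt) hA0
    · have h4 : k ≤ 6 := pow_bound (by decide +kernel) hkG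
      refine ⟨rfl, ?_⟩
      interval_cases k
      · exact absurd rfl hk0
      all_goals first | (left; rfl) | (right; rfl) | (exfalso; revert hAm; decide)
    · exfalso
      have h4 : k ≤ 2 := pow_bound (by decide +kernel) hkG
      interval_cases k
      · exact hk0 rfl
      all_goals (revert hAm; decide)
    · exfalso
      have h4 : k ≤ 2 := pow_bound (by decide +kernel) hkG
      interval_cases k
      · exact hk0 rfl
      all_goals (revert hAm; decide)
    · exact absurd ((dvd_pow_self 13 hk0).trans hk.symm.dvd) hA13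
    · exfalso
      have h4 : k ≤ 1 := pow_bound (by decide +kernel) hkG
      interval_cases k
      · exact hk0 rfl
      all_goals (revert hAm; decide)
  obtain ⟨rfl, hk36⟩ := h3k
  -- the centraliser
  set C := centralizer (A : Set G) with hC
  have hC13 : ¬ 13 ∣ Nat.card C := by
    intro h
    obtain ⟨x', hx'⟩ := exists_prime_orderOf_dvd_card' 13 h
    apply hA0
    rw [eq_bot_iff]
    intro a ha
    refine Subgroup.mem_bot.2 (hfree x' (by rw [Subgroup.orderOf_coe]; exact hx') A hA13 a ha ?_)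
    exact (mem_centralizer_iff.1 x'.2 a ha).symm
  have hC2 : ¬ 2 ∣ Nat.card C := fun h => hC13 (hpiso.dvd_normal f13.out h13 C h)
  have hC7 : ¬ 7 ∣ Nat.card C := by
    intro h
    obtain ⟨S, ⟨T, hT⟩, hS⟩ := Cfsg.Agent.Lib.PGroupCoprimeAction.exists_invariant_sylow (A := zpowers x) (p := 13)
      (H := C) (IsPGroup.of_card (n := 1) (by rw [Nat.card_zpowers, hx, pow_one])) hC13
      (fun b _ u hu => Normal.conj_mem inferInstance u hu b) 7
    have hSC : S ≤ C := by
      rw [← hT]
      exact map_subtype_le _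
    have hS1 : S ≠ ⊥ := by
      rw [← hT, Ne, map_eq_bot_iff_of_injective _ C.subtype_injective]
      exact T.ne_bot_of_dvd_card h
    have hSr : IsPGroup 7 S := by
      rw [← hT]
      exact T.2.map _
    obtain ⟨j, hj⟩ := IsPGroup.iff_card.1 hSr
    have hj0 : j ≠ 0 := by
      rintro rfl
      rw [pow_zero, Subgroup.card_eq_one] at hj
      exact hS1 hj
    have h1 := hmod S (fun h => hC13 (h.trans (card_dvd_of_le hSC))) (hS x (mem_zpowers x))
    have h4 : j ≤ 2 := pow_bound (M := 2 ^ 24 * 3 ^ 6 * 5 ^ 2 * 7 ^ 2 * 13 * 17) (by decide +kernel)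
      (hj ▸ (card_subgroup_dvd_card S).trans hcard)
    rw [hj] at h1
    interval_cases j
    · exact hj0 rfl
    all_goals (revert h1; decide)
  -- the elements of order 7 and 2
  have hg : orderOf (y ^ 4) = 7 := by
    rw [orderOf_pow_of_dvd (by norm_num) (by rw [hy]; norm_num), hy]
  have hz : orderOf (y ^ 14) = 2 := by
    rw [orderOf_pow_of_dvd (by norm_num) (by rw [hy]; norm_num), hy]
  set g := y ^ 4 with hgd
  set z := y ^ 14 with hzd
  have hgz : Commute g z := (Commute.refl y).pow_pow 4 14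
  have hgC : g ∉ C := by
    intro h
    apply hC7
    have h4 : orderOf (⟨g, h⟩ : C) = 7 := by rw [Subgroup.orderOf_mk, hg]
    rw [← h4]
    exact _root_.orderOf_dvd_natCard _
  have hzC : z ∉ C := by
    intro h
    apply hC2
    have h4 : orderOf (⟨z, h⟩ : C) = 2 := by rw [Subgroup.orderOf_mk, hz]
    rw [← h4]
    exact _root_.orderOf_dvd_natCard _
  -- subgroups of `A`
  have hsub : ∀ S : Subgroup G, S ≤ A → ∃ j ≤ k, Nat.card S = 3 ^ j := by
    intro S hS
    have h1 := card_dvd_of_le hS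
    rw [hk] at h1
    exact (Nat.dvd_prime_pow Nat.prime_three).1 h1
  have htop : ∀ u : G, u ∉ C → ∃ j, j < k ∧ Nat.card ↥(A ⊓ centralizer {u}) = 3 ^ j := by
    intro u hu
    obtain ⟨j, hjk, hj⟩ := hsub _ (inf_le_left : A ⊓ centralizer {u} ≤ A)
    refine ⟨j, lt_of_le_of_ne hjk ?_, hj⟩
    rintro rfl
    have h1 : A ⊓ centralizer {u} = A := Subgroup.eq_of_le_of_card_ge inf_le_left (by rw [hj, hk])
    apply hu
    rw [hC, mem_centralizer_iff]
    intro a ha
    have h2 : a ∈ A ⊓ centralizer {u} := by rw [h1]; exact ha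
    exact mem_centralizer_singleton_iff.1 h2.2
  obtain ⟨j, hjk, hj⟩ := htop g hgC
  obtain ⟨i, hik, hi⟩ := htop z hzC
  have hmg := card_fix_mod f7.out hg (A := A) fun a ha => hAn.conj_mem a ha g
  rw [hk, hj] at hmg
  have hj0 : k = 6 ∧ j = 0 := by
    rcases hk36 with rfl | rfl
    · exfalso
      interval_cases j <;> (revert hmg; decide)
    · refine ⟨rfl, ?_⟩
      interval_cases j
      · rfl
      all_goals (exfalso; revert hmg; decide)
  obtain ⟨rfl, rfl⟩ := hj0
  rw [pow_zero, Subgroup.card_eq_one] at hj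
  have hmz := card_fix_mod f7.out hg (A := A ⊓ centralizer {z}) (by
    rintro a ⟨ha, hc⟩
    refine ⟨hAn.conj_mem a ha g, ?_⟩
    show _ ∈ centralizer ({z} : Set G)
    rw [mem_centralizer_singleton_iff]
    have hc' : Commute a z := mem_centralizer_singleton_iff.1 hc
    exact ((hgz.mul_left hc').mul_left (hgz.inv_left)).eq)
  have h1 : A ⊓ centralizer {z} ⊓ centralizer {g} = ⊥ := by
    rw [eq_bot_iff, ← hj]
    exact le_inf (inf_le_left.trans inf_le_left) inf_le_right
  rw [h1, Subgroup.card_bot, hi] at hmz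
  have hi0 : i = 0 := by
    interval_cases i
    · rfl
    all_goals (exfalso; revert hmz; decide)
  subst hi0
  rw [pow_zero, Subgroup.card_eq_one] at hi
  -- `z` inverts `A`
  have hzz : z * z = 1 := by
    have := pow_orderOf_eq_one z
    rwa [hz, sq] at this
  have hinv : ∀ a ∈ A, z * a * z⁻¹ = a⁻¹ := by
    intro a ha
    have ha' := hAn.conj_mem a ha z
    have h2 : a * (z * a * z⁻¹) ∈ A ⊓ centralizer {z} := by
      refine ⟨mul_mem ha ha', ?_⟩
      show _ ∈ centralizer ({z} : Set G)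
      rw [mem_centralizer_singleton_iff]
      have h3 : z⁻¹ = z := inv_eq_of_mul_eq_one_right hzz
      have h4 := hAc a ha _ ha'
      calc a * (z * a * z⁻¹) * z = z * a * z⁻¹ * a * z := by rw [h4]
        _ = z * a * z * a * z⁻¹ := by rw [h3]
        _ = z * (a * (z * a * z⁻¹)) := by group
    rw [hi, Subgroup.mem_bot] at h2
    exact (inv_eq_of_mul_eq_one_right h2).symm
  have hzK : z ∈ inv2 A := Or.inr hinv
  have hK2 : 2 ∣ Nat.card (inv2 A) := by
    have h4 : orderOf (⟨z, hzK⟩ : inv2 A) = 2 := by rw [Subgroup.orderOf_mk, hz]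
    rw [← h4]
    exact _root_.orderOf_dvd_natCard _
  obtain ⟨x', hx'⟩ := exists_prime_orderOf_dvd_card' 13 (hpiso.dvd_normal f13.out h13 (inv2 A) hK2)
  have hcen : ∀ u : G, orderOf u = 13 → ¬ ∀ a ∈ A, u * a * u⁻¹ = a := by
    intro u hu hc
    apply hC13
    have h2 : u ∈ C := by
      rw [hC, mem_centralizer_iff]
      intro a ha
      exact (mul_inv_eq_iff_eq_mul.1 (hc a ha)).symm
    have h4 : orderOf (⟨u, h2⟩ : C) = 13 := by rw [Subgroup.orderOf_mk, hu]
    rw [← h4]
    exact _root_.orderOf_dvd_natCard _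
  have hx'' : orderOf (x' : G) = 13 := by rw [Subgroup.orderOf_coe]; exact hx'
  rcases mem_inv2.1 x'.2 with h | h
  · exact hcen _ hx'' h
  · refine hcen ((x' : G) ^ 2) ?_ ?_
    · rw [orderOf_pow, hx'']
      norm_num
    · intro a ha
      have h5 : (x' : G) ^ 2 * a * ((x' : G) ^ 2)⁻¹ = x' * (x' * a * (x' : G)⁻¹) * (x' : G)⁻¹ := by
        rw [sq]
        group
      rw [h5, h a ha, h _ (inv_mem ha), inv_inv]

end Cfsg.Agent.H351.CovF4
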