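import Cfsg.Agent.H351.CovF4.Eight
import Cfsg.Agent.H351.CovF4.Red2
import Cfsg.Agent.H351.CovF4.RegW

/-!
# Overgroups of the torus of order `q⁴ - q² + 1` in `F₄(q)`, `q` even (helper351, for S2499)

`twelve` : no proper subgroup of `F₄(q)`, `q` even, contains an element of order `q⁴ - q² + 1`, a regular unipotent
element and an element of order `4 r`, `r` primitive of order 3.
-/

set_option autoImplicit false
set_option exponentiation.threshold 700

namespace Cfsg.Agent.H351.CovF4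

open Cfsg Cfsg.Agent.OrdDiv Cfsg.Agent.H436 Cfsg.Agent.H902 Cfsg.Agent.H902.Names Cfsg.Agent.H915.GN
  Cfsg.Agent.H290.ElReg Cfsg.Agent.H290.ElTab Cfsg.Agent.H290.ElCross Cfsg.Agent.H264.FKS Cfsg.Agent.H56.Exc
  Cfsg.Agent.H325.Loc Cfsg.Agent.H563.KG Cfsg.Agent.H264.GN Cfsg.Agent.H325.IsoExc Cfsg.Agent.H351.F4Out.Elt

theorem ncl12_two (f : ℕ) : ncl 12 (2 ^ f) = (2 ^ f) ^ 4 - (2 ^ f) ^ 2 + 1 := by
  rw [ncl12_eq, Ph12_eq Nat.one_le_two_pow, Nat.mul_sub, mul_one, ← pow_add]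

/-! ### the cases -/

section Cases

variable {q r : ℕ}

theorem not_dvd_six (hq : 2 ≤ q) (hr : Prim q 3 r) : ¬ r ∣ q ^ 6 + 1 := by
  intro h
  have h1 := hr.dvd (show 3 ∣ 6 by norm_num)
  have h2 : 1 ≤ q ^ 6 := Nat.one_le_pow _ _ (by omega)
  have h3 := Nat.dvd_sub h h1
  have h4 : q ^ 6 + 1 - (q ^ 6 - 1) = 2 := by omega
  rw [h4] at h3
  have := Nat.le_of_dvd (by norm_num) h3
  have := prim3_gt hq hr
  omega

theorem prim_sq (hr : Prim q 3 r) : Prim (q ^ 2) 3 r := by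
  refine ⟨hr.prime, fun m => ?_, fun h => hr.not_dvd (hr.prime.dvd_of_dvd_pow h)⟩
  rw [← pow_mul, hr.dvd_iff]
  exact ⟨fun h => (Nat.Coprime.dvd_mul_left (by norm_num)).1 h, fun h => h.mul_left _⟩

variable {G : Type} [Group G] [Finite G] (S : Subgroup G) [S.Normal]

omit [S.Normal] in
theorem twelve_psu (hq : 2 ≤ q) (hi : S.index ∣ 4) (hg : IsNamed (.psu 3 (q ^ 2)) S) (hr : Prim q 3 r) {y : G}
    (hy : orderOf y = 4 * r) : False := by
  have h1 := dvd_card_of_order S (m := 4) hr.prime (prim3_not hq hr (le3_of_dvd (by norm_num))) hi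
    (a := y) (by rw [hy]; exact Dvd.intro_left _ rfl)
  have h2 : r ∣ num (.psu 3 (q ^ 2)) := by
    rw [← hg.eq]
    exact h1.mul_left _
  have h3 : num (.psu 3 (q ^ 2)) = (q ^ 2) ^ 3 * (((q ^ 2) ^ 1 + 1) * (((q ^ 2) ^ 2 - 1) * (((q ^ 2) ^ 3 + 1) * 1))) := rfl
  rw [h3, mul_one, ← pow_mul, ← pow_mul, ← pow_mul] at h2
  rcases hr.prime.dvd_mul.1 h2 with h5 | h5
  · exact hr.not_dvd_pow _ h5
  · rcases hr.prime.dvd_mul.1 h5 with h6 | h6
    · exact hr.not_dvd_add (by norm_num) h6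
    · rcases hr.prime.dvd_mul.1 h6 with h7 | h7
      · exact hr.not_dvd_sub (by norm_num) h7
      · exact not_dvd_six hq hr h7

omit [Finite G] in
/-- an element of order `2 r` in a group where the centralisers of the elements of order `r` are odd -/
theorem kill_two_r {S : Subgroup G} {m e : ℕ} [Finite S] (hb : Big S r m e) (hm : ¬ 2 ∣ m) {y : G}
    (hy : orderOf y = 4 * r) (hyS : y ^ 2 ∈ S) : False := by
  set z : S := ⟨y ^ 2, hyS⟩ with hz
  have hzo : orderOf z = 2 * r := by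
    rw [hz, Subgroup.orderOf_mk, orderOf_pow_of_dvd (by norm_num) (by rw [hy]; exact ⟨2 * r, by ring⟩), hy]
    omega
  have h1 : orderOf (z ^ 2) = r := by
    rw [orderOf_pow_of_dvd (by norm_num) (by rw [hzo]; exact Dvd.intro _ rfl), hzo]
    omega
  have h2 := hb.card (z ^ 2) h1
  have h3 : z ∈ Subgroup.centralizer ({z ^ 2} : Set S) := by
    rw [Subgroup.mem_centralizer_singleton_iff]
    exact ((Commute.refl z).pow_right 2).eq
  have h4 := orderOf_dvd_natCard (⟨z, h3⟩ : Subgroup.centralizer ({z ^ 2} : Set S))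
  rw [Subgroup.orderOf_mk, hzo] at h4
  exact hm ((Dvd.intro _ rfl).trans (h4.trans h2))

omit [Finite G] in
theorem twelve_g2 (hi : S.index ∣ 2) {f : ℕ} (hf : q = 2 ^ f) (hf1 : 1 ≤ f) (hg : IsNamed (.g2 (q ^ 2)) S) (hr : Prim q 3 r) {y : G}
    (hy : orderOf y = 4 * r) : False := by
  obtain ⟨F, _, _, hF, ⟨e⟩⟩ := hg.real
  have hfin : Finite S := Finite.of_injective e e.injective
  have hb : Big ↥(Lie.chevG2.group F) r (1 + q ^ 2 + (q ^ 2) ^ 2) 6 :=
    big_G2_3 (F := F) hF (by push_cast; ring) (prim_sq hr)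
  have hq2 : 2 ≤ q := by rw [hf]; exact Nat.le_self_pow (by omega) 2
  refine kill_two_r (hb.congr e.symm) ?_ hy (pow_mem_of_index S hi y)
  have h1 : 2 ∣ q := by rw [hf]; exact dvd_pow_self 2 (by omega)
  have h2 : 2 ∣ q ^ 2 := h1.trans (dvd_pow_self q (by norm_num))
  have h3 : 2 ∣ (q ^ 2) ^ 2 := h2.trans (dvd_pow_self _ (by norm_num))
  omega

omit [Finite G] in
/-- the regular unipotent element lies in a normal subgroup of odd index -/
theorem mem_of_index3 (hi : S.index ∣ 3) {w : G} {k : ℕ} (hw : orderOf w = 2 ^ k) : w ∈ S := by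
  refine mem_of_coprime (pow_mem_of_index S hi w) (r := 2 ^ k) ?_ ?_
  · rw [← hw, pow_orderOf_eq_one]
    exact one_mem _
  · exact Nat.Coprime.pow_right k (by norm_num)

omit [Finite G] in
theorem twelve_sz (hi : S.index ∣ 3) (hg : IsNamed (.sz 8) S) {w : G} {k : ℕ} (hw : orderOf w = 2 ^ k) (hk : 3 ≤ k) :
    False := by
  obtain ⟨F, _, _, m, hm, hF, hq, ⟨e⟩⟩ := hg.real
  have := charP2 (F := F) (k := 3) (by rw [hF]; norm_num)
  refine sz_eight e ⟨w, mem_of_index3 S hi hw⟩ ?_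
  rw [Subgroup.orderOf_mk, hw]
  exact pow_dvd_pow 2 hk

end Cases

/-! ### reducedness -/

section Red

variable {F : Type} [Field F] [Fintype F] [CharP F 2] {f : ℕ}

theorem red12 (tb : OrderTable.{0}) (hcyc : CycFixSolv.{0}) (hf : 1 ≤ f) (hF : Fintype.card F = 2 ^ f)
    {B : Subgroup ↥(Lie.chevF4.group F)} (hMB : (2 ^ f) ^ 4 - (2 ^ f) ^ 2 + 1 ∣ Nat.card B) {r : ℕ}
    (hr : Prim (2 ^ f) 3 r) {y : B} (hy : orderOf y = 4 * r) : Red ↥B (Pr (Fm1 ((2 ^ f) ^ 4 - (2 ^ f) ^ 2 + 1) 12)) := by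
  have h12 := ncl12_two f
  have hq1 : 1 ≤ 2 ^ f := Nat.one_le_two_pow
  have hq2 : 2 ≤ 2 ^ f := Nat.le_self_pow (by omega) 2
  obtain ⟨r₀, hr₀⟩ := exists_prim hq2 (show 3 ≤ 12 by norm_num) (by norm_num)
  have hpiso : ∀ r₀, Prim (2 ^ f) 12 r₀ → PIso 2 r₀ ↥(Lie.chevF4.group F) := fun r₀ hr₀ =>
    piso_F4 (F := F) (Or.inr rfl) (by rw [hF]; exact hr₀)
  have hr₀M : r₀ ∣ (2 ^ f) ^ 4 - (2 ^ f) ^ 2 + 1 := by rw [← h12]; exact dvd_ncl c12' hq1 hr₀
  have hMB' : ncl 12 (2 ^ f) ∣ Nat.card B := by rw [h12]; exact hMB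
  by_cases hf2 : 2 ≤ f
  · have hord : Ord ↥(Lie.chevF4.group F) (2 ^ f) 12 ((2 ^ f) ^ 4 - (2 ^ f) ^ 2 + 1) := fun r hr x hx =>
      (big12 hF r hr.prime (by rw [← h12]; exact dvd_ncl c12' hq1 hr)).card x hx
    refine red_good hcyc Nat.prime_two (F := F) fth_F4 (fun r hr hrM => big12 hF r hr hrM) hr₀.prime hr₀M
      (hpiso _ hr₀) hMB fun t ht ht2 htM htB => ?_
    refine good_one (hord.sub B) c12' hq1 ht htM ?_ hMB'
    have := (ncl12_ge hf).2 hf2
    omega
  · obtain rfl : f = 1 := by omega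
    have h13 : (2 ^ 1) ^ 4 - (2 ^ 1) ^ 2 + 1 = 13 := by norm_num
    have hP13 : Prim (2 ^ 1) 12 13 := prim_of_dvd c12' hq1 (by norm_num) (by rw [h12]; exact Dvd.intro_left 1 rfl)
    have hr7 : r = 7 := by
      have h4 : r ∣ 7 := hr.dvd (dvd_refl 3)
      exact (Nat.prime_dvd_prime_iff_eq hr.prime (by norm_num)).1 h4
    have hb := big12 (F := F) (f := 1) hF 13 (by norm_num) (by norm_num)
    rw [h13] at hb
    refine red_two hcyc (hb.subgroup B) ((hpiso 13 hP13).sub B) ?_ (h13 ▸ hMB) (y := y) (by rw [hy, hr7])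
      (pr_fm1.2 ⟨by norm_num, by norm_num⟩)
    have := cardF4 tb hF B
    rwa [f4_two] at this

end Red

/-! ### the exceptional groups for `q = 2` -/

section Two

variable {G : Type} [Group G] [Finite G] (S : Subgroup G) [S.Normal]

omit [Finite G] [S.Normal] in
theorem card_dvd {n : ℕ} (hn : S.index ∣ n) : Nat.card G ∣ n * Nat.card S := by
  rw [← S.card_mul_index, mul_comm]
  exact Nat.mul_dvd_mul_right hn _

omit [Finite G] [S.Normal] in
theorem kill16 {n N : ℕ} (hn : S.index ∣ n) (hS : Nat.card S = N) (h : ¬ 16 ∣ n * N) {w : G} {k : ℕ}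
    (hw : orderOf w = 2 ^ k) (hk : 4 ≤ k) : False := by
  have h1 : 16 ∣ orderOf w := by
    rw [hw]
    exact pow_dvd_pow 2 hk
  exact h (hS ▸ (h1.trans (orderOf_dvd_natCard w)).trans (card_dvd S hn))

omit [Finite G] [S.Normal] in
theorem kill7 {n N : ℕ} (hn : S.index ∣ n) (hS : Nat.card S = N) (h : ¬ 7 ∣ n * N) {y : G}
    (hy : orderOf y = 4 * 7) : False := by
  have h1 : 7 ∣ orderOf y := by
    rw [hy]
    norm_num
  exact h (hS ▸ (h1.trans (orderOf_dvd_natCard y)).trans (card_dvd S hn))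

theorem prim_367 : Prim 3 6 7 := by
  refine prim_mk (by norm_num) (by norm_num) (by norm_num) (by decide) fun s hs h6 => ?_
  have h1 : s = 2 ∨ s = 3 := by
    have h2 : s ∣ 2 * 3 := h6
    rcases hs.dvd_mul.1 h2 with h | h
    · exact Or.inl ((Nat.prime_dvd_prime_iff_eq hs Nat.prime_two).1 h)
    · exact Or.inr ((Nat.prime_dvd_prime_iff_eq hs Nat.prime_three).1 h)
  rcases h1 with rfl | rfl <;> decide

theorem two_g2 (hi : S.index ∣ 2) {g : Grp} (hg : IsNamed g S) (hl : IsLie g .G2 3 1) {y : G}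
    (hy : orderOf y = 4 * 7) : False := by
  cases hl
  obtain ⟨F, _, _, hF, ⟨e⟩⟩ := hg.real
  have hb : Big ↥(Lie.chevG2.group F) 7 7 6 := big_G2_6 (F := F) (q := 3) hF (by norm_num) prim_367
  exact kill_two_r (hb.congr e.symm) (by norm_num) hy (pow_mem_of_index S hi y)

theorem two_list {n k : ℕ} (hnk : S.index * n ∣ 12) (hcard : Nat.card S = n * 13 * (1 + k * 13))
    {w : G} {j : ℕ} (hw : orderOf w = 2 ^ j) (hj : 4 ≤ j) {y : G} (hy : orderOf y = 4 * 7)
    (h : (∃ g X l a, IsNamed g S ∧ IsLie g X l a ∧ Art.Real X l a (Nat.card S) ∧ (X, l, a) ∈ L12) ∨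
      Nat.card S ∈ [17971200]) : False := by
  have hi : S.index ∣ 12 := (Dvd.intro _ rfl).trans hnk
  have hn12 : n ∣ 12 := (Dvd.intro_left _ rfl).trans hnk
  have hn : n ≤ 12 := Nat.le_of_dvd (by norm_num) hn12
  rcases h with ⟨g, X, l, a, hg, hl, hR, hmem⟩ | hmem
  · simp only [L12, List.mem_cons, List.not_mem_nil, or_false, Prod.mk.injEq] at hmem
    rcases hmem with ⟨rfl, rfl, rfl⟩ | ⟨rfl, rfl, rfl⟩ | ⟨rfl, rfl, rfl⟩ | ⟨rfl, rfl, rfl⟩ | ⟨rfl, rfl, rfl⟩ | ⟨rfl, rfl, rfl⟩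
    · have h1 : Nat.card S = 9828 := card_of hR (c := 2) (by decide +kernel) (by decide +kernel) (by norm_num)
      have h2 : n = 2 := by
        rw [hcard] at h1
        interval_cases n <;> omega
      subst h2
      exact kill16 S (n := 6) (Nat.dvd_of_mul_dvd_mul_right (k := 2) (by norm_num) hnk) h1 (by norm_num) hw hj
    · have h1 : Nat.card S = 7800 := card_of hR (c := 2) (by decide +kernel) (by decide +kernel) (by norm_num)
      exact kill7 S hi h1 (by norm_num) hy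
    · have h1 : Nat.card S = 1092 := card_of hR (c := 2) (by decide +kernel) (by decide +kernel) (by norm_num)
      have h2 : n = 6 := by
        rw [hcard] at h1
        interval_cases n <;> omega
      subst h2
      exact kill16 S (n := 2) (Nat.dvd_of_mul_dvd_mul_right (k := 6) (by norm_num) hnk) h1 (by norm_num) hw hj
    · have h1 : Nat.card S = 5616 := card_of hR (c := 1) (by decide +kernel) (by decide +kernel) (by norm_num)
      exact kill7 S hi h1 (by norm_num) hy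
    · have h1 : Nat.card S = 6065280 := card_of hR (c := 2) (by decide +kernel) (by decide +kernel) (by norm_num)
      exact kill7 S hi h1 (by norm_num) hy
    · have h1 : Nat.card S = 4245696 := card_of hR (c := 1) (by decide +kernel) (by decide +kernel) (by norm_num)
      have h2 : n = 6 := by
        rw [hcard] at h1
        interval_cases n <;> omega
      subst h2
      exact two_g2 S (Nat.dvd_of_mul_dvd_mul_right (k := 6) (by norm_num) hnk) hg hl hy
  · simp only [List.mem_singleton] at hmem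
    exact kill7 S hi hmem (by norm_num) hy

end Two

/-- **Overgroups of the torus of order `q⁴ - q² + 1`.** -/
theorem twelve (tb : OrderTable.{0}) (hcyc : CycFixSolv.{0}) (hcf : CF) {F : Type} [Field F] [Fintype F] [CharP F 2]
    {f : ℕ} (hf : 1 ≤ f) (hF : Fintype.card F = 2 ^ f) {B : Subgroup ↥(Lie.chevF4.group F)} (hB : B ≠ ⊤)
    {x : ↥(Lie.chevF4.group F)} (hx : orderOf x = (2 ^ f) ^ 4 - (2 ^ f) ^ 2 + 1) (hxB : x ∈ B)
    {g : ↥(Lie.chevF4.group F)} (hw : g * reg F * g⁻¹ ∈ B) {r : ℕ} (hr : Prim (2 ^ f) 3 r) {y : B}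
    (hy : orderOf y = 4 * r) : False := by
  have hq2 : 2 ≤ 2 ^ f := Nat.le_self_pow (by omega) 2
  have h12 := ncl12_two f
  have hM13 : 13 ≤ (2 ^ f) ^ 4 - (2 ^ f) ^ 2 + 1 := by rw [← h12]; exact (ncl12_ge hf).1
  have hMB : (2 ^ f) ^ 4 - (2 ^ f) ^ 2 + 1 ∣ Nat.card B := by
    have h1 := orderOf_dvd_natCard (⟨x, hxB⟩ : B)
    rwa [Subgroup.orderOf_mk, hx] at h1
  obtain ⟨j, hj, hwj⟩ := reg_order_two (F := F)
  set w : B := ⟨g * reg F * g⁻¹, hw⟩ with hwd
  have hwo : orderOf w = 2 ^ j := by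
    rw [hwd, Subgroup.orderOf_mk, ← hwj, ← MulAut.conj_apply]
    exact (MulAut.conj g).orderOf_eq _
  by_cases hsep : Nat.card B ∣ 12 * ((2 ^ f) ^ 4 - (2 ^ f) ^ 2 + 1)
  · have h1 : r ∣ 12 * ((2 ^ f) ^ 4 - (2 ^ f) ^ 2 + 1) :=
      ((Dvd.intro_left 4 hy.symm).trans (orderOf_dvd_natCard y)).trans hsep
    rcases hr.prime.dvd_mul.1 h1 with h2 | h2
    · exact prim3_not hq2 hr (le3_of_dvd (by norm_num)) h2
    · rw [← h12] at h2
      have h3 := (prim_of_dvd c12' (by omega) hr.prime h2).unique hr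
      omega
  have hbig : ∀ r, r.Prime → r ∣ (2 ^ f) ^ 4 - (2 ^ f) ^ 2 + 1 →
      Big ↥(Lie.chevF4.group F) r ((2 ^ f) ^ 4 - (2 ^ f) ^ 2 + 1) 12 := fun r hr hd => big12 hF r hr hd
  obtain ⟨S, hSn, hSs, hSna, hxS, hbS, ⟨n, k, hnk, hcard⟩, hdS, hname⟩ := main1 tb hcyc hcf hf hF
    (L := L12) (L' := [17971200]) bndR_52_12 sv2_12 bndS_12 svS2_12 c12' (by norm_num) (fun q _ => le_seven12) h12
    hM13 (fun h2 => by
      have := (ncl12_ge hf).2 h2
      omega) hbig hx hxB hsep (red12 tb hcyc hf hF hMB hr hy)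
  have hSs' : IsSimpleGroup S := hSs
  have hn12 : n ∣ 12 := (Dvd.intro_left _ rfl).trans hnk
  rcases hname with ⟨g', hg, hch⟩ | ⟨hf1, hname⟩
  · have hdv : ∀ s, Prim 2 (f * 12) s → s ∣ Nat.card S := by
      intro s hs
      have h1 : Prim (2 ^ f) 12 s := prim_pow hf hs
      have h2 : s ∣ (2 ^ f) ^ 4 - (2 ^ f) ^ 2 + 1 := by rw [← h12]; exact dvd_ncl c12' (by omega) h1
      rw [hcard]
      exact (h2.mul_left _).mul_right _
    rcases charp12 hf hn12 hg.cond hch hg.eq hdS hcard hdv with rfl | ⟨rfl, rfl⟩ | ⟨rfl, rfl⟩ | ⟨rfl, rfl⟩ | ⟨rfl, rfl, rfl⟩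
    · have hT := named_f4 (F := F) tb
      rw [hF] at hT
      exact absurd (eq_top_of_name hT hg) hB
    · exact twelve_psu S hq2 (Nat.dvd_of_mul_dvd_mul_right (k := 3) (by norm_num) hnk) hg hr hy
    · exact twelve_g2 S (Nat.dvd_of_mul_dvd_mul_right (k := 6) (by norm_num) hnk) rfl hf hg hr hy
    · have hi : S.index ∣ 3 := Nat.dvd_of_mul_dvd_mul_right (k := 4) (by norm_num) hnk
      obtain ⟨K, _, _, hK, ⟨e⟩⟩ := hg.real
      rw [← hF] at hK e
      exact td4_kill (G := S) (φ := B.subtype.comp S.subtype) (B.subtype_injective.comp S.subtype_injective)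
        (w := ⟨w, mem_of_index3 S hi hwo⟩) (g := g) rfl hK hSs' e
    · exact twelve_sz S (Nat.dvd_of_mul_dvd_mul_right (k := 4) (by norm_num) hnk) hg hwo (by omega)
  · subst hf1
    have hr7 : r = 7 := by
      have h4 : r ∣ 7 := hr.dvd (dvd_refl 3)
      exact (Nat.prime_dvd_prime_iff_eq hr.prime (by norm_num)).1 h4
    subst hr7
    have h13 : (2 ^ 1) ^ 4 - (2 ^ 1) ^ 2 + 1 = 13 := by norm_num
    rw [h13] at hcard
    exact two_list S hnk hcard hwo hj hy hname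

end Cfsg.Agent.H351.CovF4
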